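import Cfsg.Agent.CITExt.Basic

/-!
A non-solvable group with involution centralisers of 2-power order and trivial core for the prime two is almost
simple.
-/

set_option autoImplicit false
set_option linter.unusedSectionVars false
set_option linter.style.haveILetI false

namespace Cfsg.Lib.CITExt

open Subgroup Cfsg.Lib.CITGroups

universe u

variable {G : Type u} [Group G] [Finite G]

/-- A minimal normal subgroup which is solvable is commutative. -/
theorem comm_of_minimal_solvable {H : Type*} [Group H] [Finite H] {L : Subgroup H} [hL : L.Normal]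
    (hmin : ∀ K : Subgroup H, K.Normal → K ≤ L → K = ⊥ ∨ K = L) (hs : Group.IsSolvable ↥L) (hne : L ≠ ⊥) :
    ∀ a ∈ L, ∀ b ∈ L, Commute a b := by
  set D := (commutator ↥L).map L.subtype with hD
  have hle : D ≤ L := map_subtype_le _
  haveI : D.Normal := inferInstanceAs ((commutator ↥L).map L.subtype).Normal
  rcases hmin D inferInstance hle with e | e
  · intro a ha b hb
    set A : ↥L := ⟨a, ha⟩
    set B : ↥L := ⟨b, hb⟩
    have h1 : A * B * A⁻¹ * B⁻¹ ∈ commutator ↥L := by
      rw [_root_.commutator_def]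
      exact commutator_mem_commutator (mem_top A) (mem_top B)
    have h2 : ((A * B * A⁻¹ * B⁻¹ : ↥L) : H) ∈ D := ⟨_, h1, rfl⟩
    rw [e, mem_bot] at h2
    have h3 : a * b * a⁻¹ * b⁻¹ = 1 := h2
    exact mul_inv_eq_iff_eq_mul.1 (mul_inv_eq_one.1 h3)
  · exfalso
    haveI := hs
    haveI : Nontrivial ↥L := L.nontrivial_iff_ne_bot.2 hne
    have htop : commutator ↥L = ⊤ := by
      rw [eq_top_iff]
      intro x _
      obtain ⟨y, hy, hxy⟩ : (x : H) ∈ D := e.symm ▸ x.2
      exact Subtype.ext hxy ▸ hy
    exact (Group.IsSolvable.commutator_lt_top_of_nontrivial ↥L).ne htop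

/-- Existence of a minimal normal subgroup inside a nontrivial normal subgroup. -/
theorem exists_minimal_normal {H : Type*} [Group H] [Finite H] {N : Subgroup H} (hN : N.Normal) (hne : N ≠ ⊥) :
    ∃ L : Subgroup H, L.Normal ∧ L ≤ N ∧ L ≠ ⊥ ∧ ∀ K : Subgroup H, K.Normal → K ≤ L → K = ⊥ ∨ K = L := by
  obtain ⟨L, ⟨hL, hLN, hL1⟩, hmin⟩ := Set.Finite.exists_minimal
    (s := {K : Subgroup H | K.Normal ∧ K ≤ N ∧ K ≠ ⊥}) (Set.toFinite _) ⟨N, hN, le_rfl, hne⟩
  refine ⟨L, hL, hLN, hL1, fun K hK hKL => or_iff_not_imp_left.2 fun hK1 => ?_⟩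
  exact le_antisymm hKL (hmin ⟨hK, hKL.trans hLN, hK1⟩ hKL)

theorem minimal_normal_not_solvable (h : CIT G) (hns : ¬ Group.IsSolvable G) (hcore : Cfsg.pCore 2 G = ⊥)
    {N : Subgroup G} [hN : N.Normal] (hmin : ∀ K : Subgroup G, K.Normal → K ≤ N → K = ⊥ ∨ K = N) (hne : N ≠ ⊥) :
    ¬ Group.IsSolvable ↥N := by
  intro hs
  haveI : IsMulCommutative ↥N :=
    ⟨⟨fun a b => Subtype.ext (comm_of_minimal_solvable hmin hs hne a a.2 b b.2).eq⟩⟩
  have hcard : Nat.card ↥N ≠ 1 := fun e => hne (card_eq_one.1 e)
  obtain ⟨r, hr, hrd⟩ := Nat.exists_prime_and_dvd hcard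
  haveI := Fact.mk hr
  let P : Sylow r ↥N := Classical.arbitrary _
  haveI : (P : Subgroup ↥N).Characteristic :=
    Sylow.characteristic_of_normal P inferInstance
  set R := (P : Subgroup ↥N).map N.subtype
  haveI : R.Normal := inferInstanceAs ((P : Subgroup ↥N).map N.subtype).Normal
  have hR1 : R ≠ ⊥ := fun e => P.ne_bot_of_dvd_card hrd ((map_eq_bot_iff_of_injective _ N.subtype_injective).1 e)
  have hR : IsPGroup r ↥R := P.2.map _
  rcases eq_or_ne r 2 with rfl | hr2
  · exact hR1 (le_bot_iff.1 (hcore ▸ Cfsg.Lib.Components.le_pCore hR))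
  · obtain ⟨k, hk⟩ := IsPGroup.iff_card.1 hR
    exact hns (isSolvable_of_odd_normal h R (hk ▸ (hr.odd_of_ne_two hr2).pow) hR1)

/-- two commuting isomorphic subgroups in a group with such centralisers are solvable -/
theorem solvable_of_commute (h : CIT G) {L M : Subgroup G} (e : Nat.card ↥L = Nat.card ↥M)
    (hc : ∀ a ∈ L, ∀ b ∈ M, Commute a b) : Group.IsSolvable ↥L := by
  haveI : Fact (Nat.Prime 2) := ⟨Nat.prime_two⟩
  by_cases heven : Even (Nat.card ↥L)
  swap
  · exact Cfsg.Agent.PF.isSolvable_of_odd _ (Nat.not_even_iff_odd.1 heven)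
  obtain ⟨t, ht⟩ := exists_prime_orderOf_dvd_card' (G := ↥L) 2 heven.two_dvd
  rw [← orderOf_coe] at ht
  have hM : IsPGroup 2 ↥M := by
    rw [IsPGroup.iff_orderOf]
    intro b
    rw [← orderOf_coe]
    exact h.two_of_comm (s := (t : G)) ⟨1, by rw [ht, pow_one]⟩
      (fun e1 => by rw [e1, orderOf_one] at ht; omega) (hc t t.2 b b.2).symm
  obtain ⟨k, hk⟩ := IsPGroup.iff_card.1 hM
  haveI := (IsPGroup.of_card (p := 2) (e.trans hk)).isNilpotent
  infer_instance

/-- **The socle.** -/
theorem exists_socle (h : CIT G) (hns : ¬ Group.IsSolvable G) (hcore : Cfsg.pCore 2 G = ⊥) :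
    ∃ N : Subgroup G, N.Normal ∧ IsSimpleGroup ↥N ∧ ¬ IsMulCommutative ↥N ∧
      centralizer (N : Set G) = ⊥ := by
  haveI : Nontrivial G := by
    rcases subsingleton_or_nontrivial G with hs | hn
    · exact absurd (Group.isSolvable_of_comm fun a b => Subsingleton.elim _ _) hns
    · exact hn
  obtain ⟨N, hN, -, hne, hmin⟩ := exists_minimal_normal (normal_top : (⊤ : Subgroup G).Normal) top_ne_bot
  haveI := hN
  haveI : Nontrivial ↥N := N.nontrivial_iff_ne_bot.2 hne
  have hNs := minimal_normal_not_solvable h hns hcore hmin hne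
  obtain ⟨L, hL, -, hL1, hLmin⟩ := exists_minimal_normal (normal_top : (⊤ : Subgroup ↥N).Normal) top_ne_bot
  have hLtop : L = ⊤ := by
    by_contra hLt
    haveI := hL
    let c : G → Subgroup ↥N := fun g => L.map (MulAut.conjNormal g : MulAut ↥N).toMonoidHom
    have hcn : ∀ g, (c g).Normal := fun g => hL.map _ (MulAut.conjNormal g : MulAut ↥N).surjective
    have hcard : ∀ g, Nat.card ↥(c g) = Nat.card ↥L := fun g =>
      card_map_of_injective (MulAut.conjNormal g : MulAut ↥N).injective
    have hcmin : ∀ g, ∀ K : Subgroup ↥N, K.Normal → K ≤ c g → K = ⊥ ∨ K = c g := by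
      intro g K hK hKc
      obtain ⟨α, hα⟩ : ∃ α : MulAut ↥N, α = MulAut.conjNormal g := ⟨_, rfl⟩
      have hcg : c g = L.map α.toMonoidHom := by rw [hα]
      rw [hcg] at hKc ⊢
      rcases hLmin (K.comap α.toMonoidHom) (hK.comap _)
        ((comap_mono hKc).trans (comap_map_eq_self_of_injective α.injective L).le) with e | e
      · exact Or.inl (by rw [← map_comap_eq_self_of_surjective (f := α.toMonoidHom) α.surjective K, e, Subgroup.map_bot])
      · exact Or.inr (by rw [← map_comap_eq_self_of_surjective (f := α.toMonoidHom) α.surjective K, e])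
    have hpair : ∀ g k, c g ≠ c k → ∀ a ∈ c g, ∀ b ∈ c k, Commute a b := by
      intro g k hne' a ha b hb
      haveI := hcn g
      haveI := hcn k
      refine commute_of_normal_of_disjoint _ _ (hcn g) (hcn k) (disjoint_iff.2 ?_) a b ha hb
      rcases hcmin g (c g ⊓ c k) inferInstance inf_le_left with e | e
      · exact e
      · rcases hcmin k (c g ⊓ c k) inferInstance inf_le_right with e' | e'
        · exact e'
        · exact absurd (e.symm.trans e') hne'
    have hc1 : c 1 = L := by
      show L.map _ = L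
      rw [map_one]
      exact map_id L
    by_cases hall : ∀ g, c g = L
    · have hnorm : (L.map N.subtype).Normal := by
        constructor
        rintro _ ⟨x, hx, rfl⟩ g
        exact ⟨MulAut.conjNormal g x, hall g ▸ ⟨x, hx, rfl⟩, MulAut.conjNormal_apply g x⟩
      rcases hmin _ hnorm (map_subtype_le L) with e | e
      · exact hL1 ((map_eq_bot_iff_of_injective _ N.subtype_injective).1 e)
      · refine hLt (eq_top_iff.2 fun x _ => ?_)
        obtain ⟨y, hy, hyx⟩ : (x : G) ∈ L.map N.subtype := e.symm ▸ x.2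
        exact Subtype.ext hyx ▸ hy
    push Not at hall
    obtain ⟨g₀, hg₀⟩ := hall
    have hLs : Group.IsSolvable ↥L :=
      solvable_of_commute (h.subgroup N) (hcard g₀).symm (hc1 ▸ hpair 1 g₀ (hc1.symm ▸ Ne.symm hg₀))
    have hab := comm_of_minimal_solvable hLmin hLs hL1
    -- all conjugates together
    let X : Set G := {x | ∃ g : G, ∃ l : ↥N, l ∈ L ∧ x = g * l * g⁻¹}
    have hXN : closure X ≤ N := by
      rw [closure_le]
      rintro _ ⟨g, l, -, rfl⟩
      exact hN.conj_mem _ l.2 g
    have hXn : (closure X).Normal := by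
      constructor
      intro x hx k
      induction hx using closure_induction with
      | mem x hx =>
        obtain ⟨g, l, hl, rfl⟩ := hx
        exact subset_closure ⟨k * g, l, hl, by group⟩
      | one => simp
      | mul x y _ _ ihx ihy =>
        have := mul_mem ihx ihy
        simpa [mul_assoc] using this
      | inv x _ ih =>
        have := inv_mem ih
        simpa [mul_assoc] using this
    have hcomm : ∀ x ∈ X, ∀ y ∈ X, x * y = y * x := by
      rintro _ ⟨g, l, hl, rfl⟩ _ ⟨k, m, hm, rfl⟩
      set a := MulAut.conjNormal g l with ha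
      set b := MulAut.conjNormal k m with hb
      have key : Commute a b := by
        by_cases e : c g = c k
        · obtain ⟨l', hl', hl''⟩ : b ∈ c g := e.symm ▸ (⟨m, hm, rfl⟩ : b ∈ c k)
          rw [← hl'']
          exact (hab l hl l' hl').map (MulAut.conjNormal g : MulAut ↥N).toMonoidHom
        · exact hpair g k e a ⟨l, hl, rfl⟩ b ⟨m, hm, rfl⟩
      have := congrArg Subtype.val key.eq
      simpa [ha, hb, MulAut.conjNormal_apply] using this
    haveI := isMulCommutative_closure hcomm
    rcases hmin _ hXn hXN with e | e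
    · refine hL1 (eq_bot_iff.2 fun l hl => ?_)
      have : (l : G) ∈ closure X := subset_closure ⟨1, l, hl, by group⟩
      rw [e, mem_bot] at this
      exact mem_bot.2 (Subtype.ext this)
    · exact hNs (e ▸ Group.isSolvable_of_comm fun a b => mul_comm' a b)
  have hsimple : IsSimpleGroup ↥N := by
    refine { eq_bot_or_eq_top_of_normal := fun K hK => ?_ }
    exact hLtop ▸ hLmin K hK (hLtop ▸ le_top)
  refine ⟨N, hN, hsimple, fun hc => hNs (Group.isSolvable_of_comm fun a b => hc.1.1 a b), ?_⟩
  haveI : Fact (Nat.Prime 2) := ⟨Nat.prime_two⟩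
  have heven : Even (Nat.card ↥N) := by
    by_contra ho
    exact hNs (Cfsg.Agent.PF.isSolvable_of_odd _ (Nat.not_even_iff_odd.1 ho))
  obtain ⟨t, ht⟩ := exists_prime_orderOf_dvd_card' (G := ↥N) 2 heven.two_dvd
  rw [← orderOf_coe] at ht
  haveI : (centralizer (N : Set G)).Normal := inferInstance
  exact le_bot_iff.1 (hcore ▸ Cfsg.Lib.Components.le_pCore
    ((h (t : G) ht).to_le (centralizer_le (Set.singleton_subset_iff.2 t.2))))

/-- The order of a group divides that of the automorphism group of a normal subgroup of trivial centraliser. -/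
theorem card_dvd_aut {N : Subgroup G} [N.Normal] (hC : centralizer (N : Set G) = ⊥) :
    Function.Injective (MulAut.conjNormal : G →* MulAut ↥N) ∧ Nat.card G ∣ Nat.card (MulAut ↥N) := by
  have hinj : Function.Injective (MulAut.conjNormal : G →* MulAut ↥N) := by
    rw [← MonoidHom.ker_eq_bot_iff, eq_bot_iff, ← hC]
    intro g hg n hn
    have := congrArg Subtype.val (DFunLike.congr_fun (MonoidHom.mem_ker.1 hg) (⟨n, hn⟩ : ↥N))
    rw [MulAut.conjNormal_apply] at this
    exact (mul_inv_eq_iff_eq_mul.1 this).symm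
  exact ⟨hinj, card_dvd_of_injective _ hinj⟩

end Cfsg.Lib.CITExt
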