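import Cfsg.Agent.CITGroups.Main
import Cfsg.Agent.Components.Cores
import Cfsg.Agent.OddChar.PF.OddOrder
import Cfsg.Agent.S0225

/-!
Non-solvable groups in which the centraliser of every involution is a 2-group.
-/

set_option autoImplicit false
set_option linter.unusedSectionVars false
set_option linter.style.haveILetI false

namespace Cfsg.Lib.CITExt

open Subgroup Cfsg.Lib.CITGroups

universe u

variable {G : Type u} [Group G] [Finite G]

theorem mul_self_of_two {t : G} (ht : orderOf t = 2) : t * t = 1 := by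
  rw [← pow_two, ← ht, pow_orderOf_eq_one]

theorem odd_orderOf {N : Subgroup G} (hodd : Odd (Nat.card ↥N)) {n : G} (hn : n ∈ N) : Odd (orderOf n) :=
  hodd.of_dvd_nat (orderOf_coe (⟨n, hn⟩ : ↥N) ▸ orderOf_dvd_natCard _)

/-- An involution inverts every element of an odd normal subgroup. -/
theorem inv_of_odd (h : CIT G) {N : Subgroup G} [hN : N.Normal] (hodd : Odd (Nat.card ↥N)) {t : G}
    (ht : orderOf t = 2) {n : G} (hn : n ∈ N) : t * n * t⁻¹ = n⁻¹ := by
  have ht' : t⁻¹ = t := inv_eq_of_mul_eq_one_right (mul_self_of_two ht)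
  let f : ↥N → ↥N := fun v => ⟨(v : G)⁻¹ * (t * v * t⁻¹), N.mul_mem (N.inv_mem v.2) (hN.conj_mem _ v.2 t)⟩
  have hf : Function.Injective f := by
    intro v w e
    have e' : (v : G)⁻¹ * (t * v * t⁻¹) = (w : G)⁻¹ * (t * w * t⁻¹) := congrArg Subtype.val e
    have hc : Commute ((w : G) * (v : G)⁻¹) t := by
      show (w : G) * (v : G)⁻¹ * t = t * ((w : G) * (v : G)⁻¹)
      calc (w : G) * (v : G)⁻¹ * t = (w : G) * ((v : G)⁻¹ * (t * v * t⁻¹)) * (t * (v : G)⁻¹ * t⁻¹) * t := by group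
        _ = t * ((w : G) * (v : G)⁻¹) := by rw [e']; group
    have h1 : (w : G) * (v : G)⁻¹ = 1 := eq_one_of_two_odd
      (h.two_of_comm (s := t) ⟨1, by rw [ht, pow_one]⟩ (fun e1 => by rw [e1, orderOf_one] at ht; omega) hc)
      (odd_orderOf hodd (N.mul_mem w.2 (N.inv_mem v.2)))
    exact Subtype.ext (mul_inv_eq_one.1 h1).symm
  obtain ⟨v, hv⟩ := (Finite.injective_iff_surjective.1 hf) ⟨n, hn⟩
  have hv' : (v : G)⁻¹ * (t * v * t⁻¹) = n := congrArg Subtype.val hv
  rw [← hv']
  simp only [ht', mul_inv_rev, inv_inv, mul_assoc]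
  simp [← mul_assoc, mul_self_of_two ht]

/-- A group with a nontrivial normal subgroup of odd order is solvable. -/
theorem isSolvable_of_odd_normal (h : CIT G) (N : Subgroup G) [hN : N.Normal] (hodd : Odd (Nat.card ↥N))
    (hne : N ≠ ⊥) : Group.IsSolvable G := by
  by_cases heven : Even (Nat.card G)
  swap
  · exact Cfsg.Agent.PF.isSolvable_of_odd G (Nat.not_even_iff_odd.1 heven)
  have hrank : ∀ E : Subgroup G, ¬ IsKleinFour ↥E := by
    intro E hE
    obtain ⟨n, hn, hn1⟩ := (Subgroup.bot_or_exists_ne_one N).resolve_left hne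
    have h4 : Nat.card ↥E = 4 := hE.card_four
    haveI : Nontrivial ↥E := Finite.one_lt_card_iff_nontrivial.1 (by omega)
    obtain ⟨a, ha⟩ := exists_ne (1 : ↥E)
    obtain ⟨b, hb, hba⟩ : ∃ b : ↥E, b ≠ 1 ∧ b ≠ a := by
      by_contra hc
      push Not at hc
      have : (Set.univ : Set ↥E) ⊆ {1, a} := fun b _ => by
        rcases eq_or_ne b 1 with e | e
        · exact Or.inl e
        · exact Or.inr (hc b e)
      have h2 := Set.ncard_le_ncard this (Set.toFinite _)
      rw [Set.ncard_univ, h4] at h2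
      have := (Set.ncard_insert_le (1 : ↥E) {a}).trans (by rw [Set.ncard_singleton])
      omega
    have ord : ∀ c : ↥E, c ≠ 1 → orderOf (c : G) = 2 := fun c hc => by
      rw [orderOf_coe]
      refine orderOf_eq_prime ?_ hc
      rw [pow_two]
      exact IsKleinFour.mul_self c
    have hab : a * b ≠ 1 := fun e => hba (mul_left_cancel (e.trans (IsKleinFour.mul_self a).symm))
    have i1 := inv_of_odd h hodd (ord a ha) hn
    have i2 := inv_of_odd h hodd (ord b hb) hn
    have i3 := inv_of_odd h hodd (ord _ hab) hn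
    have e : ((a * b : ↥E) : G) * n * ((a * b : ↥E) : G)⁻¹ = n := by
      calc ((a * b : ↥E) : G) * n * ((a * b : ↥E) : G)⁻¹ = (a : G) * ((b : G) * n * (b : G)⁻¹) * (a : G)⁻¹ := by
            push_cast; group
        _ = n := by rw [i2, ← inv_inj, mul_inv_rev, mul_inv_rev, inv_inv, inv_inv, ← mul_assoc, i1]
    rw [i3] at e
    have hn2 : n ^ 2 = 1 := by rw [pow_two]; nth_rw 1 [← e]; exact inv_mul_cancel n
    have ho := odd_orderOf hodd hn
    rcases (Nat.dvd_prime Nat.prime_two).1 (orderOf_dvd_of_pow_eq_one hn2) with e1 | e1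
    · exact hn1 (orderOf_eq_one_iff.1 e1)
    · rw [e1] at ho
      exact Nat.not_odd_iff_even.2 even_two ho
  obtain ⟨z, hz, O, hON, hOodd, hO⟩ := Cfsg.Agent.S0225.result heven hrank
  have hz2 : Two z := ⟨1, by rw [hz, pow_one]⟩
  have hz1 : z ≠ 1 := fun e => by rw [e, orderOf_one] at hz; omega
  haveI := hON
  haveI : Group.IsSolvable ↥O := Cfsg.Agent.PF.isSolvable_of_odd _ hOodd
  haveI : Fact (Nat.Prime 2) := ⟨Nat.prime_two⟩
  have hq : IsPGroup 2 (G ⧸ O) := by
    rw [IsPGroup.iff_orderOf]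
    intro x
    obtain ⟨g, rfl⟩ := QuotientGroup.mk'_surjective O x
    -- squaring is onto
    let sq : ↥O → ↥O := fun y => y⁻¹ * y⁻¹
    have hsq : Function.Injective sq := by
      intro v w e
      have hco : (Nat.card ↥O).Coprime 2 := Nat.coprime_two_right.2 hOodd
      have e' : v ^ 2 = w ^ 2 := by
        have := congrArg Inv.inv e
        simp only [sq, mul_inv_rev, inv_inv] at this
        rw [pow_two, pow_two]
        exact this
      exact (powCoprime hco).injective e'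
    obtain ⟨y, hy⟩ := (Finite.injective_iff_surjective.1 hsq) ⟨_, hO g⟩
    have hy' : (y : G)⁻¹ * (y : G)⁻¹ = z * g * z⁻¹ * g⁻¹ := congrArg Subtype.val hy
    have hzy : z * (y : G) * z⁻¹ = (y : G)⁻¹ := inv_of_odd h hOodd hz y.2
    set k := (y : G)⁻¹ * g with hk
    have hc : Commute k z := by
      have e1 : z * k * z⁻¹ = k := by
        calc z * k * z⁻¹ = (z * (y : G) * z⁻¹)⁻¹ * (z * g * z⁻¹ * g⁻¹) * g := by rw [hk]; group
          _ = k := by rw [hzy, ← hy', hk]; group
      exact (mul_inv_eq_iff_eq_mul.1 e1).symm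
    obtain ⟨j, hj⟩ := h.two_of_comm hz2 hz1 hc
    have e2 : QuotientGroup.mk' O g = QuotientGroup.mk' O k := by
      refine (QuotientGroup.mk'_eq_mk' O).2 ⟨g⁻¹ * k, ?_, by group⟩
      have : g⁻¹ * k = g⁻¹ * (y : G)⁻¹ * g⁻¹⁻¹ := by rw [hk]; group
      rw [this]
      exact hON.conj_mem _ (O.inv_mem y.2) _
    rw [e2]
    obtain ⟨i, -, hi⟩ := (Nat.dvd_prime_pow Nat.prime_two).1 (hj ▸ orderOf_map_dvd (QuotientGroup.mk' O) k)
    exact ⟨i, hi⟩
  haveI : Group.IsSolvable (G ⧸ O) := by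
    haveI := hq.isNilpotent
    infer_instance
  exact Group.isSolvable_of_ker_le_range O.subtype (QuotientGroup.mk' O)
    (by rw [QuotientGroup.ker_mk', Subgroup.range_subtype])

/-- The quotient by the core for the prime two. -/
theorem quotient_core (h : CIT G) (hns : ¬ Group.IsSolvable G) :
    CIT (G ⧸ Cfsg.pCore 2 G) ∧ ¬ Group.IsSolvable (G ⧸ Cfsg.pCore 2 G) ∧
      Cfsg.pCore 2 (G ⧸ Cfsg.pCore 2 G) = ⊥ := by
  haveI : Fact (Nat.Prime 2) := ⟨Nat.prime_two⟩
  have hP : IsPGroup 2 ↥(Cfsg.pCore 2 G) := Cfsg.Lib.Components.isPGroup_pCore 2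
  refine ⟨h.quotient _ hP, fun hs => hns ?_, ?_⟩
  · haveI := hs
    haveI : Group.IsSolvable ↥(Cfsg.pCore 2 G) := by
      haveI := hP.isNilpotent
      infer_instance
    exact Group.isSolvable_of_ker_le_range (Cfsg.pCore 2 G).subtype (QuotientGroup.mk' (Cfsg.pCore 2 G))
      (by rw [QuotientGroup.ker_mk', Subgroup.range_subtype])
  · set π := QuotientGroup.mk' (Cfsg.pCore 2 G)
    set N := (Cfsg.pCore 2 (G ⧸ Cfsg.pCore 2 G)).comap π
    haveI : N.Normal := Normal.comap inferInstance _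
    have hN : IsPGroup 2 ↥N := by
      refine (Cfsg.Lib.Components.isPGroup_pCore (G := G ⧸ Cfsg.pCore 2 G) 2).comap_of_ker_isPGroup _ ?_
      rw [QuotientGroup.ker_mk']
      exact hP
    rw [eq_bot_iff]
    intro x hx
    obtain ⟨y, rfl⟩ := QuotientGroup.mk'_surjective (Cfsg.pCore 2 G) x
    exact mem_bot.2 ((QuotientGroup.eq_one_iff y).2 (Cfsg.Lib.Components.le_pCore hN hx))

end Cfsg.Lib.CITExt
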