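import Cfsg.Agent.CITExt.EppoIndex
import Cfsg.Agent.S2497
import Cfsg.Agent.S3633
import Cfsg.Agent.Suz.Lie

/-!
Groups of prime power element orders with four prime divisors.
-/

set_option autoImplicit false
set_option linter.unusedSectionVars false
set_option linter.style.haveILetI false

namespace Cfsg.Lib.CITExt

open Subgroup Cfsg.Lib.CITGroups Cfsg.Lib.CITGroups.Eppo

theorem card_pf_of_dvd {n N : ℕ} (hN : N ≠ 0) (hd : n ∣ N) (S : Finset ℕ)
    (hS : ∀ r : ℕ, r.Prime → r ∣ N → r ∈ S) : n.primeFactors.card ≤ S.card := by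
  refine Finset.card_le_card fun r hr => hS r (Nat.prime_of_mem_primeFactors hr) ?_
  exact (Nat.dvd_of_mem_primeFactors hr).trans hd

theorem primes_dvd {r a b c d e f : ℕ} (hr : r.Prime) {p q s t : ℕ} (hp : p.Prime) (hq : q.Prime) (hs : s.Prime)
    (ht : t.Prime) (he : e = p ^ a * q ^ b * s ^ c * t ^ d) (hd : r ∣ f) (hf : f = e) :
    r ∈ ({p, q, s, t} : Finset ℕ) := by
  subst hf he
  simp only [Finset.mem_insert, Finset.mem_singleton]
  rcases hr.dvd_mul.1 hd with h | h
  · rcases hr.dvd_mul.1 h with h | h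
    · rcases hr.dvd_mul.1 h with h | h
      · exact Or.inl ((Nat.prime_dvd_prime_iff_eq hr hp).1 (hr.dvd_of_dvd_pow h))
      · exact Or.inr (Or.inl ((Nat.prime_dvd_prime_iff_eq hr hq).1 (hr.dvd_of_dvd_pow h)))
    · exact Or.inr (Or.inr (Or.inl ((Nat.prime_dvd_prime_iff_eq hr hs).1 (hr.dvd_of_dvd_pow h))))
  · exact Or.inr (Or.inr (Or.inr ((Nat.prime_dvd_prime_iff_eq hr ht).1 (hr.dvd_of_dvd_pow h))))

universe u

variable {H : Type u} [Group H] [Finite H]

/-- a Sylow subgroup with the given residue and a second one give index one -/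
theorem index_one (h : PP H) {N : Subgroup H} [N.Normal] {p c n p' c' n' : ℕ} (hp : p.Prime) (hp' : p'.Prime)
    (hc : Nat.card ↥N = p * c) (hpc : ¬ p ∣ c) (hn : c % p = n) (hc' : Nat.card ↥N = p' * c') (hpc' : ¬ p' ∣ c')
    (hn' : c' % p' = n') (hne : p ≠ p') (hpd : ∀ d, d ∣ p' - 1 → ¬ p ∣ d)
    (hex : ∀ d, d ∣ p - 1 → n ∣ d → (d = 1 ∨ IsPrimePow d) → d = n) : N = ⊤ := by
  obtain ⟨a, d, hd1, hd2, hd3, he⟩ := sylow_index h hp hc hpc
  obtain ⟨a', d', hd1', -, -, he'⟩ := sylow_index h hp' hc' hpc'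
  rw [hn] at he hd2
  rw [hn'] at he'
  rw [hex d hd1 hd2 hd3, ← mul_assoc] at he
  have hn0 : 0 < n := by
    rcases Nat.eq_zero_or_pos n with e | e
    · exact absurd (Nat.dvd_of_mod_eq_zero (hn.trans e)) hpc
    · exact e
  have h1 : N.index ∣ p ^ a := ⟨p, (Nat.eq_of_mul_eq_mul_right hn0 he).symm⟩
  obtain ⟨j, -, hj⟩ := (Nat.dvd_prime_pow hp).1 h1
  rw [← index_eq_one, hj]
  rcases j with _ | j
  · rfl
  exfalso
  have h2 : p ∣ p' ^ a' * d' := he' ▸ (hj ▸ dvd_pow_self p j.succ_ne_zero).mul_right _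
  rcases hp.dvd_mul.1 h2 with h3 | h3
  · exact hne ((Nat.prime_dvd_prime_iff_eq hp hp').1 (hp.dvd_of_dvd_pow h3))
  · exact hpd d' hd1' h3

theorem exact_of_list {p n d : ℕ} (hp : 2 ≤ p) (hd : d ∣ p - 1) (hn : n ∣ d) (hpp : d = 1 ∨ IsPrimePow d)
    (h : ∀ d ∈ (p - 1).divisors, n ∣ d → d ≠ n → ∃ r s : ℕ, r.Prime ∧ s.Prime ∧ r ≠ s ∧ r ∣ d ∧ s ∣ d) :
    d = n := by
  by_contra hne
  obtain ⟨r, s, hr, hs, hrs, hrd, hsd⟩ := h d (Nat.mem_divisors.2 ⟨hd, by omega⟩) hn hne
  rcases hpp with rfl | hpp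
  · exact hr.not_dvd_one hrd
  · obtain ⟨a, ha0, ha⟩ := eq_pow_of_dvd hr hpp hrd
    exact hrs ((Nat.prime_dvd_prime_iff_eq hs hr).1 (hs.dvd_of_dvd_pow (ha ▸ hsd))).symm

/-- A noncyclic group of order nine has no fixed point free action on a nontrivial abelian 2-group. -/
theorem eq_one_of_fpf {W : Type*} [CommGroup W] (α β : MulAut W) (ha : α ^ 3 = 1) (hb : β ^ 3 = 1)
    (hc : Commute α β) (f1 : ∀ v, α v = v → v = 1) (f2 : ∀ v, β v = v → v = 1)
    (f3 : ∀ v, (α * β) v = v → v = 1) (f4 : ∀ v, (α ^ 2 * β) v = v → v = 1) (v : W) : v ^ 3 = 1 := by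
  have norm1 : ∀ σ : MulAut W, σ ^ 3 = 1 → (∀ v, σ v = v → v = 1) → ∀ v, v * σ v * σ (σ v) = 1 := by
    intro σ hσ hf v
    refine hf _ ?_
    have e : σ (σ (σ v)) = v := by
      have := DFunLike.congr_fun hσ v
      simpa [pow_succ, MulAut.mul_apply] using this
    rw [map_mul, map_mul, e, mul_comm _ v, mul_assoc]
  have e3 : (α * β) ^ 3 = 1 := by rw [hc.mul_pow, ha, hb, mul_one]
  have e4 : (α ^ 2 * β) ^ 3 = 1 := by rw [(hc.pow_left 2).mul_pow, ← pow_mul, pow_mul', ha, hb, one_pow, mul_one]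
  have k1 := norm1 α ha f1 v
  have k2 := norm1 β hb f2 v
  have k3 := norm1 _ e3 f3 v
  have k4 := norm1 _ e4 f4 v
  have hcc : ∀ w, β (α w) = α (β w) := fun w => (DFunLike.congr_fun hc.eq w).symm
  have ha3 : ∀ w, α (α (α w)) = w := fun w => by
    have := DFunLike.congr_fun ha w
    simpa [pow_succ, MulAut.mul_apply] using this
  simp only [pow_two, MulAut.mul_apply, hcc, ha3] at k3 k4
  -- the norm of the whole group
  have k5 := norm1 α ha f1 (v * β v * β (β v))
  have k6 : v * v * v * ((v * β v * β (β v)) * α (v * β v * β (β v)) * α (α (v * β v * β (β v)))) =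
      (v * α v * α (α v)) * (v * β v * β (β v)) * (v * α (β v) * α (α (β (β v)))) *
        (v * α (α (β v)) * α (β (β v))) := by
    simp only [map_mul]
    ac_rfl
  rw [k5, k1, k2, k3, k4, one_mul, one_mul, one_mul, mul_one] at k6
  rw [pow_three, ← mul_assoc]
  exact k6

/-- Over `PSL₃(4)` there is no core. -/
theorem core_eq_bot {G : Type u} [Group G] [Finite G] (h : PP G) {Q : Subgroup G} [Q.Normal]
    (hQ2 : IsPGroup 2 ↥Q) (a b : G ⧸ Q) (ha : a ^ 3 = 1) (hb : b ^ 3 = 1) (hc : Commute a b) (ha1 : a ≠ 1) (hb1 : b ≠ 1)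
    (hab : a * b ≠ 1) (haab : a ^ 2 * b ≠ 1) : Q = ⊥ := by
  haveI : Fact (Nat.Prime 2) := ⟨Nat.prime_two⟩
  by_contra hQ
  haveI : Nontrivial ↥Q := Q.nontrivial_iff_ne_bot.2 hQ
  haveI : Nontrivial ↥(center ↥Q) := hQ2.center_nontrivial
  set V := (center ↥Q).map Q.subtype with hV
  haveI : V.Normal := inferInstanceAs ((center ↥Q).map Q.subtype).Normal
  have hcomm : ∀ x ∈ V, ∀ q ∈ Q, Commute x q := by
    rintro _ ⟨x, hx, rfl⟩ q hq
    exact congrArg Subtype.val (mem_center_iff.1 hx ⟨q, hq⟩).symm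
  haveI : IsMulCommutative ↥V := ⟨⟨fun x y =>
    Subtype.ext (hcomm x x.2 y (map_subtype_le _ y.2)).eq⟩⟩
  letI : CommGroup ↥V := { (inferInstance : Group ↥V) with mul_comm := fun x y => mul_comm' x y }
  have hker : Q ≤ (MulAut.conjNormal : G →* MulAut ↥V).ker := by
    intro q hq
    rw [MonoidHom.mem_ker]
    refine MulEquiv.ext fun x => Subtype.ext ?_
    rw [MulAut.conjNormal_apply, MulAut.one_apply, ← (hcomm x x.2 q hq).eq, mul_inv_cancel_right]
  let φ : G ⧸ Q →* MulAut ↥V := QuotientGroup.lift Q MulAut.conjNormal hker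
  have hfix : ∀ c : G ⧸ Q, c ^ 3 = 1 → c ≠ 1 → ∀ v, φ c v = v → v = 1 := by
    intro c hc3 hc1 v hv
    by_contra hv1
    obtain ⟨g, rfl⟩ := QuotientGroup.mk'_surjective Q c
    have hv' : g * (v : G) * g⁻¹ = v := by
      have := congrArg Subtype.val hv
      rwa [show φ (QuotientGroup.mk' Q g) = MulAut.conjNormal g from rfl, MulAut.conjNormal_apply] at this
    have hv2 : Two (v : G) := two_of_mem hQ2 (map_subtype_le _ v.2)
    obtain ⟨k, hk⟩ := h.cit.two_of_comm hv2 (fun e => hv1 (Subtype.ext e)) (mul_inv_eq_iff_eq_mul.1 hv')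
    have h1 : orderOf (QuotientGroup.mk' Q g) ∣ 2 ^ k := hk ▸ orderOf_map_dvd _ g
    have h2 : orderOf (QuotientGroup.mk' Q g) ∣ 3 := orderOf_dvd_of_pow_eq_one hc3
    exact hc1 (orderOf_eq_one_iff.1 (Nat.eq_one_of_dvd_coprimes
      (Nat.Coprime.pow_left k (by norm_num)) h1 h2))
  have hne : ∃ v : ↥V, v ≠ 1 := by
    obtain ⟨x, hx⟩ := exists_ne (1 : ↥(center ↥Q))
    refine ⟨⟨((x : ↥Q) : G), ⟨x, x.2, rfl⟩⟩, fun e => hx ?_⟩
    exact Subtype.ext (Subtype.ext (show ((x : ↥Q) : G) = 1 from congrArg Subtype.val e))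
  obtain ⟨v, hv⟩ := hne
  have h3 := eq_one_of_fpf (φ a) (φ b) (by rw [← map_pow, ha, map_one]) (by rw [← map_pow, hb, map_one])
    (hc.map φ) (hfix a ha ha1) (hfix b hb hb1)
    (by rw [← map_mul]; exact hfix _ (by rw [hc.mul_pow, ha, hb, one_mul]) hab)
    (by
      rw [← map_pow, ← map_mul]
      exact hfix _ (by rw [(hc.pow_left 2).mul_pow, ← pow_mul, pow_mul', ha, hb, one_pow, one_mul]) haab) v
  obtain ⟨k, hk⟩ := two_of_mem hQ2 (map_subtype_le _ v.2 : (v : G) ∈ Q)
  rw [orderOf_coe] at hk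
  exact hv (orderOf_eq_one_iff.1 (Nat.eq_one_of_dvd_coprimes (Nat.Coprime.pow_left k (by norm_num))
    (dvd_of_eq hk) (orderOf_dvd_of_pow_eq_one h3)))

open Matrix in
/-- an elementary abelian subgroup of order nine in `PSL₃(4)` -/
theorem exists_nine {K : Type} [Field K] [Fintype K] (hK : Fintype.card K = 4) :
    ∃ a b : Matrix.ProjectiveSpecialLinearGroup (Fin 3) K, a ^ 3 = 1 ∧ b ^ 3 = 1 ∧ Commute a b ∧
      a ≠ 1 ∧ b ≠ 1 ∧ a * b ≠ 1 ∧ a ^ 2 * b ≠ 1 := by
  classical
  obtain ⟨u, hu⟩ := IsCyclic.exists_generator (α := Kˣ)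
  have ho : orderOf u = 3 := by
    rw [orderOf_eq_card_of_forall_mem_zpowers hu, Nat.card_eq_fintype_card, Fintype.card_units, hK]
  set w : K := (u : K) with hw
  have hw3 : w ^ 3 = 1 := by rw [hw, ← Units.val_pow_eq_pow_val, ← ho, pow_orderOf_eq_one, Units.val_one]
  have hw1 : w ≠ 1 := fun e => by
    rw [show u = 1 from Units.ext e, orderOf_one] at ho
    omega
  have hw0 : w ≠ 0 := u.ne_zero
  let A : SpecialLinearGroup (Fin 3) K := ⟨!![1, 0, 0; 0, w, 0; 0, 0, w * w], by
    rw [det_fin_three]; simp; linear_combination hw3⟩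
  let B : SpecialLinearGroup (Fin 3) K := ⟨!![0, 1, 0; 0, 0, 1; 1, 0, 0], by rw [det_fin_three]; simp⟩
  let π := QuotientGroup.mk' (Subgroup.center (SpecialLinearGroup (Fin 3) K))
  have hmem : ∀ X : SpecialLinearGroup (Fin 3) K, π X = 1 → (X : Matrix (Fin 3) (Fin 3) K) 0 0 =
      (X : Matrix (Fin 3) (Fin 3) K) 1 1 ∧ (X : Matrix (Fin 3) (Fin 3) K) 0 1 = 0 := by
    intro X hX
    obtain ⟨c, -, hc⟩ := Matrix.SpecialLinearGroup.mem_center_iff.1 ((QuotientGroup.eq_one_iff X).1 hX)
    rw [← hc]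
    simp
  have hA3 : A ^ 3 = 1 := by
    rw [pow_three]
    refine Subtype.ext ?_
    show (A.1 : Matrix (Fin 3) (Fin 3) K) * (A.1 * A.1) = 1
    ext i j
    fin_cases i <;> fin_cases j <;> simp [A, Matrix.mul_apply, Fin.sum_univ_three] <;>
      first | linear_combination hw3 | linear_combination hw3 * (1 + w ^ 3)
  have hB3 : B ^ 3 = 1 := by
    rw [pow_three]
    refine Subtype.ext ?_
    show (B.1 : Matrix (Fin 3) (Fin 3) K) * (B.1 * B.1) = 1
    ext i j
    fin_cases i <;> fin_cases j <;> simp [B, Matrix.mul_apply, Fin.sum_univ_three]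
  refine ⟨π A, π B, by rw [← map_pow, hA3, map_one], by rw [← map_pow, hB3, map_one], ?_, ?_, ?_, ?_, ?_⟩
  · show π A * π B = π B * π A
    rw [← map_mul, ← map_mul]
    refine (QuotientGroup.mk'_eq_mk' _).2 ⟨(A * B)⁻¹ * (B * A), ?_, by group⟩
    let Z : SpecialLinearGroup (Fin 3) K := ⟨!![w, 0, 0; 0, w, 0; 0, 0, w], by
      rw [det_fin_three]; simp; linear_combination hw3⟩
    have hZ : (A * B)⁻¹ * (B * A) = Z := by
      rw [inv_mul_eq_iff_eq_mul]
      refine Subtype.ext ?_
      show (B.1 : Matrix (Fin 3) (Fin 3) K) * A.1 = A.1 * B.1 * Z.1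
      ext i j
      fin_cases i <;> fin_cases j <;> simp [A, B, Z, Matrix.mul_apply, Fin.sum_univ_three] <;>
        linear_combination -hw3
    rw [hZ]
    refine Matrix.SpecialLinearGroup.mem_center_iff.2 ⟨w, by simpa using hw3, ?_⟩
    ext i j
    fin_cases i <;> fin_cases j <;> simp [Z]
  · intro e
    have := (hmem A e).1
    simp [A] at this
    exact hw1 this.symm
  · intro e
    have := (hmem B e).2
    simp [B] at this
  · rw [← map_mul]
    intro e
    have := (hmem _ e).2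
    change ((A.1 : Matrix (Fin 3) (Fin 3) K) * B.1) 0 1 = 0 at this
    simp [A, B, Matrix.mul_apply, Fin.sum_univ_three] at this
  · rw [← map_pow, ← map_mul]
    intro e
    have := (hmem _ e).2
    rw [pow_two] at this
    change ((A.1 : Matrix (Fin 3) (Fin 3) K) * A.1 * B.1) 0 1 = 0 at this
    simp [A, B, Matrix.mul_apply, Fin.sum_univ_three] at this

theorem eppo_four {G : Type u} [Group G] [Finite G] (h : PP G) :
    (Nat.card G).primeFactors.card ≤ 4 ∧
    ((Nat.card G).primeFactors.card = 4 →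
      (∃ (F : Type) (_ : Field F) (_ : Fintype F), Fintype.card F = 4 ∧
        Nonempty (G ≃* Matrix.ProjectiveSpecialLinearGroup (Fin 3) F)) ∨
      (∃ (N : Subgroup G) (_ : N.Normal), IsPGroup 2 ↥N ∧
        ∃ (F : Type) (_ : Field F) (_ : Fintype F),
          (Fintype.card F = 8 ∧ Nonempty (G ⧸ N ≃* ↥(Cfsg.Lie.Sz F 4))) ∨
          (Fintype.card F = 32 ∧ Nonempty (G ⧸ N ≃* ↥(Cfsg.Lie.Sz F 8))))) := by
  classical
  by_cases hsmall : (Nat.card G).primeFactors.card ≤ 2
  · exact ⟨by omega, fun e => by omega⟩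
  haveI : Fact (Nat.Prime 2) := ⟨Nat.prime_two⟩
  have hns : ¬ Group.IsSolvable G := by
    refine (Cfsg.Agent.S3633.result (G := G) (Nat.card G).primeFactors (by omega) ⟨fun r hr =>
      ⟨Nat.prime_of_mem_primeFactors hr, Nat.dvd_of_mem_primeFactors hr⟩, fun r hr s hs hrs => ?_⟩ ⊥
      (Group.isSolvable_of_comm fun a b => Subsingleton.elim _ _)).2
    rintro ⟨x, hx⟩
    have hrp := Nat.prime_of_mem_primeFactors hr
    have hsp := Nat.prime_of_mem_primeFactors hs
    have hx1 : x ≠ 1 := fun e => by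
      rw [e, orderOf_one] at hx
      exact hrp.one_lt.ne' (Nat.eq_one_of_mul_eq_one_right hx.symm)
    obtain ⟨a, -, ha⟩ := eq_pow_of_dvd hrp (h x hx1) (hx ▸ dvd_mul_right r s)
    exact hrs ((Nat.prime_dvd_prime_iff_eq hsp hrp).1 (hsp.dvd_of_dvd_pow (ha ▸ hx ▸ dvd_mul_left s r))).symm
  obtain ⟨hcitH, hnsH, hcoreH⟩ := quotient_core h.cit hns
  have hQ2 : IsPGroup 2 ↥(Cfsg.pCore 2 G) := Cfsg.Lib.Components.isPGroup_pCore 2
  have hppH : PP (G ⧸ Cfsg.pCore 2 G) := PP.quotient h _
  obtain ⟨N, hN, hsimple, hna, hC⟩ := exists_socle hcitH hnsH hcoreH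
  haveI := hN
  haveI := hsimple
  have hdvdN : Nat.card ↥N ∣ Nat.card (G ⧸ Cfsg.pCore 2 G) := card_subgroup_dvd_card N
  have haut := (card_dvd_aut hC).2
  have hev : 2 ∣ Nat.card ↥N := by
    by_contra ho
    refine hna ⟨⟨fun a b => IsSimpleGroup.comm_iff_isSolvable.2 ?_ a b⟩⟩
    exact Cfsg.Agent.PF.isSolvable_of_odd _ (Nat.not_even_iff_odd.1 fun e => ho e.two_dvd)
  have hpf : (Nat.card G).primeFactors = (Nat.card (G ⧸ Cfsg.pCore 2 G)).primeFactors := by
    obtain ⟨k, hk⟩ := IsPGroup.iff_card.1 hQ2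
    rw [Subgroup.card_eq_card_quotient_mul_card_subgroup (Cfsg.pCore 2 G), hk,
      Nat.primeFactors_mul Nat.card_pos.ne' (pow_ne_zero _ two_ne_zero)]
    refine Finset.union_eq_left.2 fun r hr => ?_
    obtain ⟨hr1, hr2, -⟩ := Nat.mem_primeFactors.1 hr
    rw [(Nat.prime_dvd_prime_iff_eq hr1 Nat.prime_two).1 (hr1.dvd_of_dvd_pow hr2)]
    exact Nat.mem_primeFactors.2 ⟨Nat.prime_two, hev.trans hdvdN, Nat.card_pos.ne'⟩
  have hle3 : ∀ {M : ℕ} (s t x : ℕ) (a b c : ℕ), Nat.card (MulAut ↥N) = M → s.Prime → t.Prime → x.Prime →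
      M = s ^ a * t ^ b * x ^ c → (Nat.card G).primeFactors.card ≤ 3 := by
    intro M s t x a b c hM hs ht hx he
    rw [hpf]
    refine (card_pf_of_dvd (n := Nat.card (G ⧸ Cfsg.pCore 2 G)) (N := M) (by
      rw [he]; exact mul_ne_zero (mul_ne_zero (pow_ne_zero _ hs.ne_zero) (pow_ne_zero _ ht.ne_zero))
        (pow_ne_zero _ hx.ne_zero)) (hM ▸ haut) {s, t, x} fun r hr hd => ?_).trans
      ((Finset.card_insert_le _ _).trans (Nat.add_le_add_right ((Finset.card_insert_le _ _).trans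
        (Nat.add_le_add_right (Finset.card_singleton x).le 1)) 1))
    have := primes_dvd (a := a) (b := b) (c := c) (d := c) hr hs ht hx hx (e := M * x ^ c) (f := M * x ^ c)
      (by rw [he]) (hd.mul_right _) rfl
    simpa using this
  have hfour : ∀ (hN1 : N = ⊤) {M : ℕ} (s t x y a b c d : ℕ), Nat.card ↥N = M → s.Prime → t.Prime → x.Prime →
      y.Prime → M = s ^ a * t ^ b * x ^ c * y ^ d → (Nat.card G).primeFactors.card ≤ 4 := by
    intro hN1 M s t x y a b c d hM hs ht hx hy he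
    rw [hpf]
    refine (card_pf_of_dvd (n := Nat.card (G ⧸ Cfsg.pCore 2 G)) (N := M) (hM ▸ Nat.card_pos.ne')
      (by rw [← hM, hN1, Subgroup.card_top]) {s, t, x, y}
      fun r hr hd => primes_dvd hr hs ht hx hy he hd rfl).trans ?_
    exact (Finset.card_insert_le _ _).trans (Nat.add_le_add_right ((Finset.card_insert_le _ _).trans
      (Nat.add_le_add_right ((Finset.card_insert_le _ _).trans
        (Nat.add_le_add_right (Finset.card_singleton y).le 1)) 1)) 1)
  rcases Cfsg.Agent.S2497.result (G := ↥N) hna (fun g hg => hppH.of_injective N.subtype N.subtype_injective g hg) with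
    he | ⟨K, i1, i2, hq, ⟨e⟩⟩ | ⟨K, i1, i2, hK, ⟨e⟩⟩ | ⟨K, i1, i2, hK⟩
  · obtain ⟨e⟩ := he
    haveI := Fact.mk Nat.prime_three
    letI : Fintype (GaloisField 3 2) := Fintype.ofFinite _
    have h9 : Fintype.card (GaloisField 3 2) = 9 := by
      rw [← Nat.card_eq_fintype_card, GaloisField.card 3 2 two_ne_zero]; norm_num
    obtain ⟨e9⟩ := Cfsg.Agent.S0254.result h9
    have := hle3 2 3 5 5 2 1 ((mulAut_congr_card (e.trans e9.symm)).trans (aut_card_psl_nine h9))
      Nat.prime_two Nat.prime_three Nat.prime_five (by norm_num)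
    exact ⟨by omega, fun e4 => by omega⟩
  · simp only [Finset.mem_insert, Finset.mem_singleton] at hq
    have hA := mulAut_congr_card e
    have : (Nat.card G).primeFactors.card ≤ 3 := by
      rcases hq with h4 | h7 | h8 | h17
      · haveI := Fact.mk Nat.prime_two
        refine hle3 2 3 5 3 1 1 (M := 120) (hA.trans ?_) Nat.prime_two Nat.prime_three Nat.prime_five (by norm_num)
        rw [Cfsg.Agent.S0813.result 2 2 (by norm_num) (by rw [h4]; norm_num) 2 le_rfl (fun _ => by norm_num),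
          if_pos rfl, Cfsg.Lib.Classical.card_PGL, Cfsg.Lib.Classical.SLTwoTori.card_SL2, h4]
        norm_num
      · exact hle3 2 3 7 4 1 1 (M := 336) (hA.trans ((aut_card_psl_prime (by norm_num) (by norm_num) h7).trans
          (by norm_num))) Nat.prime_two Nat.prime_three (by norm_num) (by norm_num)
      · refine hle3 2 3 7 3 3 1 (M := 1512) (hA.trans ?_) Nat.prime_two Nat.prime_three (by norm_num) (by norm_num)
        rw [Cfsg.Agent.S0813.result 2 3 (by norm_num) (by rw [h8]; norm_num) 2 le_rfl (fun _ => by norm_num),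
          if_pos rfl, Cfsg.Lib.Classical.card_PGL, Cfsg.Lib.Classical.SLTwoTori.card_SL2, h8]
        norm_num
      · exact hle3 2 3 17 5 2 1 (M := 4896) (hA.trans ((aut_card_psl_prime (by norm_num) (by norm_num) h17).trans
          (by norm_num))) Nat.prime_two Nat.prime_three (by norm_num) (by norm_num)
    exact ⟨by omega, fun e4 => by omega⟩
  · -- PSL₃(4)
    have hcN : Nat.card ↥N = 20160 := by
      rw [Nat.card_congr e.toEquiv]
      have hgm := Cfsg.Lib.Classical.gcd_mul_card_PSL (ι := Fin 3) (F := K)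
      have hs := Cfsg.Lib.Classical.card_SL_mul_eq_prod (F := K) (n := 3) (by norm_num)
      rw [Fintype.card_fin, Nat.card_eq_fintype_card (α := K), hK] at hgm
      rw [hK, Fin.prod_univ_three] at hs
      generalize Nat.card (Matrix.SpecialLinearGroup (Fin 3) K) = c at hs hgm
      generalize Nat.card (Matrix.ProjectiveSpecialLinearGroup (Fin 3) K) = d at hgm ⊢
      norm_num at hs hgm
      omega
    have htop : N = ⊤ := index_one hppH (p := 7) (c := 2880) (n := 3) (p' := 5) (c' := 4032) (n' := 2)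
      (by norm_num) (by norm_num) (by rw [hcN]) (by norm_num) (by norm_num) (by rw [hcN]) (by norm_num)
      (by norm_num) (by norm_num)
      (fun d hd hd' => by have := Nat.le_of_dvd (by norm_num) hd; have := Nat.le_of_dvd (Nat.pos_of_dvd_of_pos hd (by norm_num)) hd'; omega)
      (fun d hd hn hpp => exact_of_list (by norm_num) hd hn hpp fun d hd hn hne => by
        rw [show (7 - 1 : ℕ) = 6 from rfl, show Nat.divisors 6 = {1, 2, 3, 6} by decide] at hd
        simp only [Finset.mem_insert, Finset.mem_singleton] at hd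
        rcases hd with rfl | rfl | rfl | rfl
        · norm_num at hn
        · norm_num at hn
        · exact absurd rfl hne
        · exact ⟨2, 3, Nat.prime_two, Nat.prime_three, by norm_num, by norm_num, by norm_num⟩)
    refine ⟨hfour htop 2 3 5 7 6 2 1 1 hcN Nat.prime_two Nat.prime_three Nat.prime_five (by norm_num) (by norm_num),
      fun _ => Or.inl ⟨K, i1, i2, hK, ?_⟩⟩
    subst htop
    have f := Subgroup.topEquiv.symm.trans e
    obtain ⟨a, b, ha, hb, hc, ha1, hb1, hab, haab⟩ := exists_nine hK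
    have hbot : Cfsg.pCore 2 G = ⊥ := core_eq_bot h hQ2 (f.symm a) (f.symm b) (by rw [← map_pow, ha, map_one])
      (by rw [← map_pow, hb, map_one]) (hc.map f.symm.toMonoidHom) (by simpa using ha1) (by simpa using hb1)
      (by rw [← map_mul]; exact f.symm.map_ne_one_iff.2 hab)
      (by rw [← map_pow, ← map_mul]; exact f.symm.map_ne_one_iff.2 haab)
    exact ⟨((QuotientGroup.quotientBot (G := G)).symm.trans
      (QuotientGroup.quotientMulEquivOfEq hbot.symm)).trans f⟩
  · -- the Suzuki groups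
    rcases hK with ⟨hK, ⟨e⟩⟩ | ⟨hK, ⟨e⟩⟩
    · have hcN : Nat.card ↥N = 29120 := by
        rw [Nat.card_congr e.toEquiv]
        have Q : Cfsg.Lib.Suz.Par K 1 := ⟨le_rfl, by rw [hK]; norm_num⟩
        refine (Nat.card_congr (Cfsg.Lib.Suz.lieEquiv Q).toEquiv).symm.trans ?_
        rw [Cfsg.Lib.Suz.card_Sz Q]
        norm_num
      have htop : N = ⊤ := index_one hppH (p := 13) (c := 2240) (n := 4) (p' := 7) (c' := 4160) (n' := 2)
        (by norm_num) (by norm_num) (by rw [hcN]) (by norm_num) (by norm_num) (by rw [hcN]) (by norm_num)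
        (by norm_num) (by norm_num)
        (fun d hd hd' => by have := Nat.le_of_dvd (by norm_num) hd; have := Nat.le_of_dvd (Nat.pos_of_dvd_of_pos hd (by norm_num)) hd'; omega)
        (fun d hd hn hpp => exact_of_list (by norm_num) hd hn hpp fun d hd hn hne => by
          rw [show (13 - 1 : ℕ) = 12 from rfl, show Nat.divisors 12 = {1, 2, 3, 4, 6, 12} by decide] at hd
          simp only [Finset.mem_insert, Finset.mem_singleton] at hd
          rcases hd with rfl | rfl | rfl | rfl | rfl | rfl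
          iterate 3 · norm_num at hn
          · exact absurd rfl hne
          · norm_num at hn
          · exact ⟨2, 3, Nat.prime_two, Nat.prime_three, by norm_num, by norm_num, by norm_num⟩)
      refine ⟨hfour htop 2 5 7 13 6 1 1 1 hcN Nat.prime_two Nat.prime_five (by norm_num) (by norm_num) (by norm_num),
        fun _ => Or.inr ⟨_, inferInstance, hQ2, K, i1, i2, Or.inl ⟨hK, ?_⟩⟩⟩
      subst htop
      exact ⟨Subgroup.topEquiv.symm.trans e⟩
    · have hcN : Nat.card ↥N = 32537600 := by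
        rw [Nat.card_congr e.toEquiv]
        have Q : Cfsg.Lib.Suz.Par K 2 := ⟨by norm_num, by rw [hK]; norm_num⟩
        refine (Nat.card_congr (Cfsg.Lib.Suz.lieEquiv Q).toEquiv).symm.trans ?_
        rw [Cfsg.Lib.Suz.card_Sz Q]
        norm_num
      have htop : N = ⊤ := index_one hppH (p := 31) (c := 1049600) (n := 2) (p' := 41) (c' := 793600) (n' := 4)
        (by norm_num) (by norm_num) (by rw [hcN]) (by norm_num) (by norm_num) (by rw [hcN]) (by norm_num)
        (by norm_num) (by norm_num)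
        (fun d hd hd' => by
          have h31 := hd'.trans hd
          norm_num at h31)
        (fun d hd hn hpp => exact_of_list (by norm_num) hd hn hpp fun d hd hn hne => by
          rw [show (31 - 1 : ℕ) = 30 from rfl, show Nat.divisors 30 = {1, 2, 3, 5, 6, 10, 15, 30} by decide] at hd
          simp only [Finset.mem_insert, Finset.mem_singleton] at hd
          rcases hd with rfl | rfl | rfl | rfl | rfl | rfl | rfl | rfl
          · norm_num at hn
          · exact absurd rfl hne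
          · norm_num at hn
          · norm_num at hn
          · exact ⟨2, 3, Nat.prime_two, Nat.prime_three, by norm_num, by norm_num, by norm_num⟩
          · exact ⟨2, 5, Nat.prime_two, Nat.prime_five, by norm_num, by norm_num, by norm_num⟩
          · norm_num at hn
          · exact ⟨2, 3, Nat.prime_two, Nat.prime_three, by norm_num, by norm_num, by norm_num⟩)
      refine ⟨hfour htop 2 5 31 41 10 2 1 1 hcN Nat.prime_two Nat.prime_five (by norm_num) (by norm_num) (by norm_num),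
        fun _ => Or.inr ⟨_, inferInstance, hQ2, K, i1, i2, Or.inr ⟨hK, ?_⟩⟩⟩
      subst htop
      exact ⟨Subgroup.topEquiv.symm.trans e⟩

end Cfsg.Lib.CITExt
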