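import Cfsg.Agent.CITExt.Socle
import Cfsg.Agent.CITGroups.Eppo
import Mathlib.GroupTheory.SpecificGroups.Cyclic
import Mathlib.RingTheory.IntegralDomain

/-!
Extensions of a group with a Sylow subgroup of prime order, all elements having prime power order.
-/

set_option autoImplicit false
set_option linter.unusedSectionVars false
set_option linter.style.haveILetI false

namespace Cfsg.Lib.CITExt

open Subgroup Cfsg.Lib.CITGroups.Eppo

variable {H : Type*} [Group H] [Finite H]

theorem PP.quotient (h : PP H) (K : Subgroup H) [K.Normal] : PP (H ⧸ K) := by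
  intro x hx
  obtain ⟨g, rfl⟩ := QuotientGroup.mk'_surjective K x
  have hg : g ≠ 1 := fun e => hx (by rw [e, map_one])
  refine (h g hg).dvd (orderOf_map_dvd _ g) fun e => hx (orderOf_eq_one_iff.1 e)

theorem isPGroup_centralizer (h : PP H) {p : ℕ} (hp : p.Prime) {y : H} (hy : orderOf y = p) :
    IsPGroup p ↥(centralizer ({y} : Set H)) := by
  haveI := Fact.mk hp
  rw [IsPGroup.iff_orderOf]
  rintro ⟨x, hx⟩
  rw [orderOf_mk]
  by_contra hno
  push Not at hno
  have hx1 : x ≠ 1 := fun e => hno 0 (by rw [e, orderOf_one, pow_zero])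
  obtain ⟨r, k, hr, hk, hrk⟩ := (isPrimePow_nat_iff _).1 (h x hx1)
  have hrp : r ≠ p := fun e => hno k (by rw [← hrk, e])
  have hc : Commute x y := mem_centralizer_singleton_iff.1 hx
  have ho := hc.orderOf_mul_eq_mul_orderOf_of_coprime
    (by rw [← hrk, hy]; exact Nat.Coprime.pow_left k ((Nat.coprime_primes hr hp).2 hrp))
  rw [hy, ← hrk] at ho
  have hne : x * y ≠ 1 := fun e => by
    rw [e, orderOf_one] at ho
    exact hp.one_lt.ne' (Nat.eq_one_of_mul_eq_one_left ho.symm)
  have h1 := h _ hne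
  rw [ho] at h1
  obtain ⟨a, -, ha⟩ := eq_pow_of_dvd hp h1 (dvd_mul_left p _)
  have : r ∣ p ^ a := ha ▸ ((dvd_pow_self r (by omega)).mul_right p)
  exact hrp ((Nat.prime_dvd_prime_iff_eq hr hp).1 (hr.dvd_of_dvd_pow this))

/-- Frattini with a Sylow subgroup of prime order. -/
theorem sylow_index (h : PP H) {N : Subgroup H} [hN : N.Normal] {p c : ℕ} (hp : p.Prime)
    (hc : Nat.card ↥N = p * c) (hpc : ¬ p ∣ c) :
    ∃ a d : ℕ, d ∣ p - 1 ∧ c % p ∣ d ∧ (d = 1 ∨ IsPrimePow d) ∧ N.index * (p * (c % p)) = p ^ a * d := by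
  classical
  haveI := Fact.mk hp
  let P : Sylow p ↥N := Classical.arbitrary _
  have hPc : Nat.card ↥(P : Subgroup ↥N) = p := by
    rw [P.card_eq_multiplicity, hc, Nat.factorization_mul hp.ne_zero (fun e => hpc (by rw [e]; exact dvd_zero p)),
      Finsupp.add_apply, hp.factorization_self, Nat.factorization_eq_zero_of_not_dvd hpc, pow_one]
  set P' := (P : Subgroup ↥N).map N.subtype with hP'
  have hP'c : Nat.card ↥P' = p := (card_map_of_injective N.subtype_injective).trans hPc
  haveI : IsCyclic ↥P' := isCyclic_of_prime_card hP'c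
  set M := normalizer (P' : Set H) with hM
  let φ : ↥M →* MulAut ↥P' := Subgroup.normalizerMonoidHom P'
  have hAut : Nat.card (MulAut ↥P') = p - 1 := by
    rw [Nat.card_congr (IsCyclic.mulAutMulEquiv ↥P').toEquiv, hP'c, Nat.card_eq_fintype_card,
      ZMod.card_units_eq_totient, Nat.totient_prime hp]
  haveI : IsCyclic (MulAut ↥P') := by
    haveI : IsCyclic (ZMod (Nat.card ↥P'))ˣ := by rw [hP'c]; infer_instance
    exact isCyclic_of_surjective (IsCyclic.mulAutMulEquiv ↥P').symm.toMonoidHom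
      (IsCyclic.mulAutMulEquiv ↥P').symm.surjective
  -- the image
  set d := Nat.card ↥φ.range with hd
  have hd1 : d ∣ p - 1 := hAut ▸ card_subgroup_dvd_card _
  have hdpp : d = 1 ∨ IsPrimePow d := by
    obtain ⟨⟨g, m, rfl⟩, hg⟩ := IsCyclic.exists_generator (α := ↥φ.range)
    have ho : orderOf (φ m) = d := by
      rw [hd, ← orderOf_eq_card_of_forall_mem_zpowers hg]
      exact Subgroup.orderOf_coe (⟨φ m, ⟨m, rfl⟩⟩ : ↥φ.range)
    rcases eq_or_ne d 1 with e | e
    · exact Or.inl e
    have hm1 : (m : H) ≠ 1 := fun e1 => e (by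
      rw [← ho, show m = 1 from Subtype.ext e1, map_one, orderOf_one])
    refine Or.inr ((h m hm1).dvd (ho ▸ ?_) e)
    rw [orderOf_coe]
    exact orderOf_map_dvd φ m
  -- the kernel
  obtain ⟨y, hy⟩ := exists_prime_orderOf_dvd_card' (G := ↥P') p (dvd_of_eq hP'c.symm)
  have hker : IsPGroup p ↥φ.ker := by
    rw [IsPGroup.iff_orderOf]
    rintro ⟨m, hm⟩
    have hmc : (m : H) ∈ centralizer ({(y : H)} : Set H) := by
      refine mem_centralizer_singleton_iff.2 ?_
      rw [Subgroup.normalizerMonoidHom_ker] at hm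
      exact (mem_centralizer_iff.1 hm (y : H) y.2).symm
    obtain ⟨k, hk⟩ := IsPGroup.iff_orderOf.1 (isPGroup_centralizer h hp (by rw [orderOf_coe, hy]))
      ⟨(m : H), hmc⟩
    exact ⟨k, by simp only [orderOf_mk] at hk ⊢; rwa [← orderOf_coe]⟩
  obtain ⟨a, ha⟩ := IsPGroup.iff_card.1 hker
  have hMc : Nat.card ↥M = p ^ a * d := by
    rw [← Subgroup.card_mul_index φ.ker, Subgroup.index_ker, ha]
  -- the part inside N
  set K := N.subgroupOf M with hK
  set Mn := M.subgroupOf N with hMn
  have hKM : Nat.card ↥K = Nat.card ↥Mn :=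
    Nat.card_congr { toFun := fun x => ⟨⟨x.1.1, x.2⟩, x.1.2⟩, invFun := fun x => ⟨⟨x.1.1, x.2⟩, x.1.2⟩,
                     left_inv := fun _ => rfl, right_inv := fun _ => rfl }
  have hMn' : Mn = normalizer ((P : Subgroup ↥N) : Set ↥N) := by
    ext n
    rw [hMn, mem_subgroupOf, hM, mem_normalizer_iff, mem_normalizer_iff]
    have key : ∀ w : ↥N, (w : H) ∈ P' ↔ w ∈ (P : Subgroup ↥N) := fun w => by
      rw [hP']
      exact Subgroup.mem_map_iff_mem N.subtype_injective
    constructor
    · intro hn v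
      have := hn (v : H)
      rwa [key, show (n : H) * v * (n : H)⁻¹ = ((n * v * n⁻¹ : ↥N) : H) by simp, key] at this
    · intro hn v
      constructor
      · rintro ⟨w, hw, rfl⟩
        exact ⟨n * w * n⁻¹, (hn w).1 hw, by simp⟩
      · rintro ⟨w, hw, hwv⟩
        have hv : v = ((n⁻¹ * w * n : ↥N) : H) := by
          push_cast
          rw [show (w : H) = (n : H) * v * (n : H)⁻¹ from hwv]
          group
        rw [hv]
        exact (key _).2 ((hn _).2 (by rw [show n * (n⁻¹ * w * n) * n⁻¹ = w by group]; exact hw))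
  set e := Nat.card ↥(K.map φ) with he
  have hed : e ∣ d := card_dvd_of_le (map_le_range _ _)
  set ψ := φ.comp K.subtype with hψ
  have hψr : Nat.card ↥ψ.range = e := by
    rw [he]
    congr 1
    rw [hψ, MonoidHom.range_comp, Subgroup.range_subtype]
  have hψk : Nat.card ↥ψ.ker = p := by
    have hp' : IsPGroup p ↥ψ.ker := by
      rw [IsPGroup.iff_orderOf]
      rintro ⟨x, hx⟩
      obtain ⟨k, hk⟩ := IsPGroup.iff_orderOf.1 hker ⟨x.1, hx⟩
      refine ⟨k, ?_⟩
      rw [← hk, ← orderOf_coe (⟨x, hx⟩ : ↥ψ.ker)]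
      exact ((orderOf_coe x).symm.trans (orderOf_coe (⟨x.1, hx⟩ : ↥φ.ker)))
    obtain ⟨i, hi⟩ := IsPGroup.iff_card.1 hp'
    have hdvd : p ^ i ∣ p * c := hi ▸ hc ▸ ((card_subgroup_dvd_card ψ.ker).trans
      (hKM ▸ card_subgroup_dvd_card Mn))
    have hge : p ∣ Nat.card ↥ψ.ker := by
      have hle : P' ≤ M := le_normalizer
      have hPK : (P'.subgroupOf M).subgroupOf K ≤ ψ.ker := by
        intro x hx
        rw [MonoidHom.mem_ker]
        show φ x.1 = 1
        rw [← MonoidHom.mem_ker, Subgroup.normalizerMonoidHom_ker, mem_subgroupOf]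
        refine mem_centralizer_iff.2 fun v hv => ?_
        have hxP : ((x : ↥M) : H) ∈ P' := hx
        exact congrArg Subtype.val (mul_comm' (⟨v, hv⟩ : ↥P') ⟨((x : ↥M) : H), hxP⟩)
      refine dvd_trans (dvd_of_eq ?_) (card_dvd_of_le hPK)
      rw [Nat.card_congr (subgroupOfEquivOfLe (H := P'.subgroupOf M) (K := K) ?_).toEquiv,
        Nat.card_congr (subgroupOfEquivOfLe hle).toEquiv, hP'c]
      intro x hx
      exact map_subtype_le (P : Subgroup ↥N) (show (x : H) ∈ P' from hx)
    rw [hi] at hge ⊢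
    rcases i with _ | _ | i
    · exact absurd hge (by rw [pow_zero]; exact hp.not_dvd_one)
    · rw [pow_one]
    · exfalso
      rw [pow_succ', Nat.mul_dvd_mul_iff_left hp.pos] at hdvd
      exact hpc ((dvd_pow_self p i.succ_ne_zero).trans hdvd)
  have hKc : Nat.card ↥K = p * e := by
    rw [← Subgroup.card_mul_index ψ.ker, Subgroup.index_ker, hψk, hψr]
  -- the count of Sylow subgroups
  have hmod : c % p = e := by
    have h1 := card_sylow_modEq_one p ↥N
    have h2 : Nat.card (Sylow p ↥N) * (p * e) = p * c := by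
      rw [Sylow.card_eq_index_normalizer P, ← hKc, hKM, hMn', mul_comm]
      exact (Subgroup.card_mul_index _).trans hc
    have h3 : Nat.card (Sylow p ↥N) * e = c := by
      refine Nat.eq_of_mul_eq_mul_left hp.pos ?_
      rw [← h2]; ring
    have helt : e < p := by
      have := Nat.le_of_dvd (by have := hp.two_le; omega) (hed.trans hd1)
      have := hp.two_le
      omega
    have h4 : c % p = e % p := by
      rw [← h3, Nat.mul_mod, h1, ← Nat.mul_mod, one_mul]
    rw [h4, Nat.mod_eq_of_lt helt]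
  refine ⟨a, d, hd1, hmod ▸ hed, hdpp, ?_⟩
  have hidx : K.index = N.index := by
    have h1 := relIndex_sup_right (H := M) (K := N)
    rw [hM, Sylow.normalizer_sup_eq_top P, relIndex_top_right] at h1
    exact h1.symm
  rw [hmod, ← hKc, ← hMc, ← Subgroup.card_mul_index K, hidx, mul_comm]

end Cfsg.Lib.CITExt
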