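import Cfsg.Agent.CITExt.Almost
import Cfsg.Agent.Known.SLTwo.Spectrum
import Cfsg.Agent.PrimePowerOrders.Arith
import Cfsg.Agent.Classical.Misc.SmallPSL
import Cfsg.Agent.Chars.Burnside
import Cfsg.Agent.Suz.Lie
import Cfsg.Agent.S0252
import Cfsg.Agent.S0253
import Cfsg.Agent.S0254

/-!
Simple groups with at most five orbits of the automorphism group: the reduction to at most one composite element
order, and the groups to be discarded from that list.
-/

set_option autoImplicit false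
set_option linter.unusedSectionVars false
set_option linter.style.haveILetI false

namespace Cfsg.Lib.CITExt

open Subgroup

universe u

variable {G : Type u} [Group G] [Finite G]

theorem not_six (h5 : Nat.card (MulAction.orbitRel.Quotient (MulAut G) G) ≤ 5) (S : Finset ℕ)
    (hS : ∀ n ∈ S, ∃ g : G, orderOf g = n) : S.card ≤ 5 := by
  classical
  have hw : ∀ n : S, ∃ g : G, orderOf g = (n : ℕ) := fun n => hS n n.2
  choose w hw using hw
  refine le_trans ?_ h5
  rw [← Nat.card_eq_finsetCard]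
  refine Nat.card_le_card_of_injective (fun n => (Quotient.mk'' (w n) : MulAction.orbitRel.Quotient (MulAut G) G))
    fun a b e => ?_
  obtain ⟨α, hα⟩ := Quotient.eq''.1 e
  refine Subtype.ext ?_
  have hα' : α (w b) = w a := hα
  rw [← hw a, ← hw b, ← hα', α.orderOf_eq]

theorem three_primes [IsSimpleGroup G] (hG : ¬ IsMulCommutative G) : 3 ≤ (Nat.card G).primeFactors.card := by
  by_contra hlt
  have hne := Nat.card_pos (α := G).ne'
  have hgen : ∀ p q : ℕ, p.Prime → q.Prime → (∀ r ∈ (Nat.card G).primeFactors, r = p ∨ r = q) → False := by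
    intro p q hp hq hall
    refine hG ⟨⟨fun a b => IsSimpleGroup.comm_iff_isSolvable.2 ?_ a b⟩⟩
    refine Cfsg.Lib.Chars.burnside_isSolvable p q hp hq G ?_
    obtain ⟨a, c, hpc, hc⟩ := Nat.exists_eq_pow_mul_and_not_dvd hne p hp.ne_one
    have hc0 : c ≠ 0 := fun e => hpc (e ▸ dvd_zero p)
    refine ⟨a, c.primeFactorsList.length, ?_⟩
    rw [hc]
    congr 1
    refine Nat.eq_prime_pow_of_unique_prime_dvd hc0 fun {d} hd hdc => ?_
    exact (hall d (Nat.mem_primeFactors.2 ⟨hd, hc ▸ hdc.mul_left _, hne⟩)).resolve_left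
      fun e => hpc (e ▸ hdc)
  rcases (by omega : (Nat.card G).primeFactors.card = 0 ∨ (Nat.card G).primeFactors.card = 1 ∨
    (Nat.card G).primeFactors.card = 2) with e | e | e
  · exact hgen 2 3 Nat.prime_two Nat.prime_three (by simp [Finset.card_eq_zero.1 e])
  · obtain ⟨p, hp⟩ := Finset.card_eq_one.1 e
    have hpp : p.Prime := Nat.prime_of_mem_primeFactors (by rw [hp]; simp)
    exact hgen p p hpp hpp fun r hr => by rw [hp, Finset.mem_singleton] at hr; exact Or.inl hr
  · obtain ⟨p, q, -, hp⟩ := Finset.card_eq_two.1 e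
    refine hgen p q (Nat.prime_of_mem_primeFactors (by rw [hp]; simp))
      (Nat.prime_of_mem_primeFactors (by rw [hp]; simp)) fun r hr => ?_
    rw [hp] at hr
    simpa using hr

/-- At most one composite element order. -/
theorem one_composite [IsSimpleGroup G] (hG : ¬ IsMulCommutative G)
    (h5 : Nat.card (MulAction.orbitRel.Quotient (MulAut G) G) ≤ 5) :
    {n : ℕ | n ∈ Set.range (orderOf : G → ℕ) ∧ 1 < n ∧ ¬ n.Prime}.Subsingleton := by
  rintro x ⟨hx, hx1, hxp⟩ y ⟨hy, hy1, hyp⟩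
  by_contra hne
  have h3 := three_primes hG
  classical
  have h := not_six h5 (insert 1 (insert x (insert y (Nat.card G).primeFactors))) fun n hn => by
    simp only [Finset.mem_insert] at hn
    rcases hn with rfl | rfl | rfl | hn
    · exact ⟨1, orderOf_one⟩
    · exact hx
    · exact hy
    · haveI := Fact.mk (Nat.prime_of_mem_primeFactors hn)
      exact exists_prime_orderOf_dvd_card' n (Nat.dvd_of_mem_primeFactors hn)
  have hP : ∀ n, ¬ n.Prime → n ∉ (Nat.card G).primeFactors := fun n hn hm => hn (Nat.prime_of_mem_primeFactors hm)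
  rw [Finset.card_insert_of_notMem (by simp [hP 1 Nat.not_prime_one, hx1.ne, hy1.ne]),
    Finset.card_insert_of_notMem (by simp [hne, hP x hxp]), Finset.card_insert_of_notMem (hP y hyp)] at h
  omega

section Lists

variable {F : Type} [Field F] [Fintype F]

theorem six_psl {p : ℕ} [Fact p.Prime] [CharP F p] (e : G ≃* Matrix.ProjectiveSpecialLinearGroup (Fin 2) F)
    (h5 : Nat.card (MulAction.orbitRel.Quotient (MulAut G) G) ≤ 5) (S : Finset ℕ) (h6 : S.card = 6)
    (hS : ∀ n ∈ S, n ∣ p ∨ n ∣ (Fintype.card F - 1) / Nat.gcd 2 (Fintype.card F - 1) ∨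
      n ∣ (Fintype.card F + 1) / Nat.gcd 2 (Fintype.card F - 1)) : False := by
  have := not_six h5 S fun n hn => by
    obtain ⟨g, hg⟩ := (Cfsg.Lib.GLTwo.psl_spectrum (F := F) p n).2 (hS n hn)
    exact ⟨e.symm g, by rw [e.symm.orderOf_eq, hg]⟩
  omega

open Matrix in
/-- The elimination. -/
theorem five_of_list [IsSimpleGroup G] (hG : ¬ IsMulCommutative G)
    (h5 : Nat.card (MulAction.orbitRel.Quotient (MulAut G) G) ≤ 5)
    (hl : (Nat.card G).Prime ∨
    (∃ (F : Type) (_ : Field F) (_ : Fintype F), (Fintype.card F = 5 ∨ Fintype.card F = 7 ∨ Fintype.card F = 8 ∨ Fintype.card F = 9 ∨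
        Fintype.card F = 11 ∨ Fintype.card F = 13 ∨ Fintype.card F = 16) ∧ Nonempty (G ≃* Matrix.ProjectiveSpecialLinearGroup (Fin 2) F)) ∨
    (∃ (F : Type) (_ : Field F) (_ : Fintype F), Fintype.card F = 4 ∧ Nonempty (G ≃* Matrix.ProjectiveSpecialLinearGroup (Fin 3) F)) ∨
    (∃ (F : Type) (_ : Field F) (_ : Fintype F), Fintype.card F = 8 ∧ Nonempty (G ≃* ↥(Cfsg.Lie.Sz F 4))) ∨
    (∃ (F : Type) (_ : Field F) (_ : Fintype F), ∃ n r s : ℕ, r.Prime ∧ s.Prime ∧ 3 ^ n - 1 = 2 * r ∧ 3 ^ n + 1 = 4 * s ∧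
        Fintype.card F = 3 ^ n ∧ Nonempty (G ≃* Matrix.ProjectiveSpecialLinearGroup (Fin 2) F)) ∨
    (∃ (F : Type) (_ : Field F) (_ : Fintype F), ∃ n r : ℕ, (2 ^ n - 1).Prime ∧ r.Prime ∧ 2 ^ n + 1 = 3 * r ∧
        Fintype.card F = 2 ^ n ∧ Nonempty (G ≃* Matrix.ProjectiveSpecialLinearGroup (Fin 2) F))) :
    Nonempty (G ≃* ↥(alternatingGroup (Fin 5))) ∨ Nonempty (G ≃* ↥(alternatingGroup (Fin 6))) ∨
      (∃ (F : Type) (_ : Field F) (_ : Fintype F), (Fintype.card F = 7 ∨ Fintype.card F = 8) ∧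
        Nonempty (G ≃* Matrix.ProjectiveSpecialLinearGroup (Fin 2) F)) := by
  classical
  rcases hl with hp | ⟨F, i1, i2, hq, ⟨e⟩⟩ | ⟨F, i1, i2, hq, ⟨e⟩⟩ | ⟨F, i1, i2, hq, ⟨e⟩⟩ |
    ⟨F, i1, i2, n, r, s, hr, hs, h1, h2, hq, ⟨e⟩⟩ | ⟨F, i1, i2, n, r, h1, hr, h2, hq, ⟨e⟩⟩
  · haveI := Fact.mk hp
    haveI := isCyclic_of_prime_card (α := G) rfl
    obtain ⟨g, hg⟩ := IsCyclic.exists_generator (α := G)
    refine absurd ⟨⟨fun a b => ?_⟩⟩ hG
    obtain ⟨i, rfl⟩ := mem_zpowers_iff.1 (hg a)
    obtain ⟨j, rfl⟩ := mem_zpowers_iff.1 (hg b)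
    exact (Commute.zpow_zpow_self g i j).eq
  · rcases hq with hq | hq | hq | hq | hq | hq | hq
    · exact Or.inl (by obtain ⟨e5⟩ := Cfsg.Agent.S0253.result hq; exact ⟨e.trans e5⟩)
    · exact Or.inr (Or.inr ⟨F, i1, i2, Or.inl hq, ⟨e⟩⟩)
    · exact Or.inr (Or.inr ⟨F, i1, i2, Or.inr hq, ⟨e⟩⟩)
    · exact Or.inr (Or.inl (by obtain ⟨e9⟩ := Cfsg.Agent.S0254.result hq; exact ⟨e.trans e9⟩))
    · haveI : Fact (Nat.Prime 11) := ⟨by norm_num⟩
      haveI : CharP F 11 := charP_of_card_eq_prime_pow (f := 1) hq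
      exact (six_psl (p := 11) e h5 {1, 2, 3, 5, 6, 11} (by decide) (by rw [hq]; decide)).elim
    · haveI : Fact (Nat.Prime 13) := ⟨by norm_num⟩
      haveI : CharP F 13 := charP_of_card_eq_prime_pow (f := 1) hq
      exact (six_psl (p := 13) e h5 {1, 2, 3, 6, 7, 13} (by decide) (by rw [hq]; decide)).elim
    · haveI := Fact.mk Nat.prime_two
      haveI : CharP F 2 := charP_of_card_eq_prime_pow (f := 4) hq
      exact (six_psl (p := 2) e h5 {1, 2, 3, 5, 15, 17} (by decide) (by rw [hq]; decide)).elim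
  · exfalso
    haveI := Fact.mk Nat.prime_two
    haveI : CharP F 2 := charP_of_card_eq_prime_pow (f := 2) (p := 2) hq
    have hcN : Nat.card G = 20160 := by
      rw [Nat.card_congr e.toEquiv]
      have hgm := Cfsg.Lib.Classical.gcd_mul_card_PSL (ι := Fin 3) (F := F)
      have hs := Cfsg.Lib.Classical.card_SL_mul_eq_prod (F := F) (n := 3) (by norm_num)
      rw [Fintype.card_fin, Nat.card_eq_fintype_card (α := F), hq] at hgm
      rw [hq, Fin.prod_univ_three] at hs
      generalize Nat.card (SpecialLinearGroup (Fin 3) F) = c at hs hgm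
      generalize Nat.card (ProjectiveSpecialLinearGroup (Fin 3) F) = d at hgm ⊢
      norm_num at hs hgm
      omega
    let J : SpecialLinearGroup (Fin 3) F := ⟨!![1, 1, 0; 0, 1, 1; 0, 0, 1], by rw [det_fin_three]; simp⟩
    let π := QuotientGroup.mk' (Subgroup.center (SpecialLinearGroup (Fin 3) F))
    have h4 : orderOf (π J) = 2 ^ (1 + 1) := by
      refine orderOf_eq_prime_pow ?_ ?_
      · intro e1
        rw [← map_pow, pow_one] at e1
        obtain ⟨c, -, hc⟩ := Matrix.SpecialLinearGroup.mem_center_iff.1 ((QuotientGroup.eq_one_iff _).1 e1)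
        have h02 := congrFun (congrFun hc 0) 2
        rw [pow_two] at h02
        change _ = ((J.1 : Matrix (Fin 3) (Fin 3) F) * J.1) 0 2 at h02
        simp [J, Matrix.mul_apply, Fin.sum_univ_three] at h02
      · rw [← map_pow, show J ^ 2 ^ (1 + 1) = 1 from ?_, map_one]
        rw [show (2 : ℕ) ^ (1 + 1) = 2 * 2 by norm_num, pow_mul, pow_two, pow_two]
        refine Subtype.ext ?_
        show (J.1 : Matrix (Fin 3) (Fin 3) F) * J.1 * (J.1 * J.1) = 1
        ext i j
        fin_cases i <;> fin_cases j <;>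
          simp [J, Matrix.mul_apply, Fin.sum_univ_three, CharTwo.add_self_eq_zero]
    have := not_six h5 {1, 2, 3, 4, 5, 7} fun k hk => by
      simp only [Finset.mem_insert, Finset.mem_singleton] at hk
      rcases hk with rfl | rfl | rfl | rfl | rfl | rfl
      · exact ⟨1, orderOf_one⟩
      · exact exists_prime_orderOf_dvd_card' 2 (by rw [hcN]; norm_num)
      · haveI : Fact (Nat.Prime 3) := ⟨by norm_num⟩
        exact exists_prime_orderOf_dvd_card' 3 (by rw [hcN]; norm_num)
      · exact ⟨e.symm (π J), (e.symm.orderOf_eq _).trans (h4.trans (by norm_num))⟩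
      · haveI : Fact (Nat.Prime 5) := ⟨by norm_num⟩
        exact exists_prime_orderOf_dvd_card' 5 (by rw [hcN]; norm_num)
      · haveI : Fact (Nat.Prime 7) := ⟨by norm_num⟩
        exact exists_prime_orderOf_dvd_card' 7 (by rw [hcN]; norm_num)
    norm_num at this
  · exfalso
    haveI := Fact.mk Nat.prime_two
    have Q : Cfsg.Lib.Suz.Par F 1 := ⟨le_rfl, by rw [hq]; norm_num⟩
    let f : ↥(Cfsg.Sz F 1) ≃* G := (Cfsg.Lib.Suz.lieEquiv Q).trans e.symm
    have hcN : Nat.card G = 29120 := by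
      rw [← Nat.card_congr f.toEquiv, Cfsg.Lib.Suz.card_Sz Q]
      norm_num
    have h4 : orderOf (⟨Cfsg.Lib.Suz.T 1 (1 : F) 0, Cfsg.Lib.Suz.T_mem Q 1 0⟩ : ↥(Cfsg.Sz F 1)) = 2 ^ (1 + 1) := by
      rw [orderOf_mk]
      have hsq : Cfsg.Lib.Suz.T 1 (1 : F) 0 * Cfsg.Lib.Suz.T 1 1 0 = Cfsg.Lib.Suz.T 1 0 1 := by
        haveI := Cfsg.Lib.Suz.charP Q
        rw [Cfsg.Lib.Suz.T_mul Q]
        simp [CharTwo.add_self_eq_zero]
      have hsq' : Cfsg.Lib.Suz.T 1 (0 : F) 1 * Cfsg.Lib.Suz.T 1 0 1 = 1 := by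
        haveI := Cfsg.Lib.Suz.charP Q
        rw [Cfsg.Lib.Suz.T_mul Q, ← Cfsg.Lib.Suz.T_zero (m := 1) (F := F) Q]
        simp [CharTwo.add_self_eq_zero]
      refine orderOf_eq_prime_pow ?_ ?_
      · rw [pow_one, pow_two, hsq]
        intro e1
        rw [← Cfsg.Lib.Suz.T_zero (m := 1) (F := F) Q] at e1
        exact one_ne_zero (Cfsg.Lib.Suz.T_inj Q e1).2
      · rw [show (2 : ℕ) ^ (1 + 1) = 2 * 2 by norm_num, pow_mul, pow_two, pow_two, hsq, hsq']
    have := not_six h5 {1, 2, 4, 5, 7, 13} fun k hk => by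
      simp only [Finset.mem_insert, Finset.mem_singleton] at hk
      rcases hk with rfl | rfl | rfl | rfl | rfl | rfl
      · exact ⟨1, orderOf_one⟩
      · exact exists_prime_orderOf_dvd_card' 2 (by rw [hcN]; norm_num)
      · exact ⟨f _, (f.orderOf_eq _).trans (h4.trans (by norm_num))⟩
      · haveI : Fact (Nat.Prime 5) := ⟨by norm_num⟩
        exact exists_prime_orderOf_dvd_card' 5 (by rw [hcN]; norm_num)
      · haveI : Fact (Nat.Prime 7) := ⟨by norm_num⟩
        exact exists_prime_orderOf_dvd_card' 7 (by rw [hcN]; norm_num)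
      · haveI : Fact (Nat.Prime 13) := ⟨by norm_num⟩
        exact exists_prime_orderOf_dvd_card' 13 (by rw [hcN]; norm_num)
    norm_num at this
  · exfalso
    haveI := Fact.mk Nat.prime_three
    haveI : CharP F 3 := charP_of_card_eq_prime_pow hq
    have hn : 3 ≤ n := by
      by_contra hlt
      have := hr.two_le
      have := hs.two_le
      interval_cases n <;> norm_num at h1 h2
      all_goals first
        | omega
        | (obtain rfl : r = 4 := by omega
           norm_num at hr)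
    have h27 : 3 ^ 3 ≤ 3 ^ n := Nat.pow_le_pow_right (by norm_num) hn
    have hg : Nat.gcd 2 (Fintype.card F - 1) = 2 := Nat.gcd_eq_left (by rw [hq, h1]; exact dvd_mul_right 2 r)
    refine six_psl (p := 3) e h5 {1, 2, 3, r, s, 2 * s} ?_ ?_
    · rw [Finset.card_insert_of_notMem, Finset.card_insert_of_notMem, Finset.card_insert_of_notMem,
        Finset.card_insert_of_notMem, Finset.card_insert_of_notMem, Finset.card_singleton] <;>
      simp only [Finset.mem_insert, Finset.mem_singleton] <;> omega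
    · intro k hk
      rw [hg, hq, h1, h2, Nat.mul_div_cancel_left _ two_pos, show 4 * s = 2 * (2 * s) by ring,
        Nat.mul_div_cancel_left _ two_pos]
      simp only [Finset.mem_insert, Finset.mem_singleton] at hk
      rcases hk with rfl | rfl | rfl | rfl | rfl | rfl
      · exact Or.inl (one_dvd _)
      · exact Or.inr (Or.inr (dvd_mul_right 2 s))
      · exact Or.inl dvd_rfl
      · exact Or.inr (Or.inl dvd_rfl)
      · exact Or.inr (Or.inr (dvd_mul_left _ 2))
      · exact Or.inr (Or.inr dvd_rfl)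
  · by_cases hn : n ≤ 3
    · rcases (by omega : n = 0 ∨ n = 1 ∨ n = 2 ∨ n = 3) with rfl | rfl | rfl | rfl
      · norm_num at h1
      · norm_num at h1
      · norm_num at h2
        omega
      · exact Or.inr (Or.inr ⟨F, i1, i2, Or.inr (by rw [hq]; norm_num), ⟨e⟩⟩)
    · exfalso
      push Not at hn
      haveI := Fact.mk Nat.prime_two
      haveI : CharP F 2 := charP_of_card_eq_prime_pow hq
      have h16 : 2 ^ 4 ≤ 2 ^ n := Nat.pow_le_pow_right two_pos hn
      have hev : 2 ∣ 2 ^ n := dvd_pow_self 2 (by omega)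
      have hg : Nat.gcd 2 (Fintype.card F - 1) = 1 := (Nat.prime_two.coprime_iff_not_dvd).2 (by omega)
      refine six_psl (p := 2) e h5 {1, 2, 3, r, 3 * r, 2 ^ n - 1} ?_ ?_
      · rw [Finset.card_insert_of_notMem, Finset.card_insert_of_notMem, Finset.card_insert_of_notMem,
          Finset.card_insert_of_notMem, Finset.card_insert_of_notMem, Finset.card_singleton] <;>
        simp only [Finset.mem_insert, Finset.mem_singleton] <;> omega
      · intro k hk
        rw [hg, hq, Nat.div_one, Nat.div_one, h2]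
        simp only [Finset.mem_insert, Finset.mem_singleton] at hk
        rcases hk with rfl | rfl | rfl | rfl | rfl | rfl
        · exact Or.inl (one_dvd _)
        · exact Or.inl dvd_rfl
        · exact Or.inr (Or.inr (dvd_mul_right 3 r))
        · exact Or.inr (Or.inr (dvd_mul_left _ 3))
        · exact Or.inr (Or.inr dvd_rfl)
        · exact Or.inr (Or.inl dvd_rfl)

end Lists

end Cfsg.Lib.CITExt
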