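import Mathlib.Algebra.Group.End
import Mathlib.Algebra.BigOperators.Group.Finset.Basic
import Mathlib.Data.ZMod.Basic
import Mathlib.GroupTheory.OrderOfElement
import Mathlib.Algebra.Field.ZMod
import Mathlib.Tactic.Ring

/-!
A Frobenius group whose kernel acts without fixed points on an abelian group: the norm of the complement is not
trivial.
-/

set_option autoImplicit false
set_option linter.unusedSectionVars false

namespace Cfsg.Lib.CITExt

open Finset

variable {W : Type*} [CommGroup W]

/-- the norm of an automorphism of order `p` without fixed points is trivial -/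
theorem norm_eq_one {σ : MulAut W} {p : ℕ} (hσ : σ ^ p = 1) (hf : ∀ v, σ v = v → v = 1) (v : W) :
    ∏ j ∈ range p, (σ ^ j) v = 1 := by
  refine hf _ ?_
  rw [map_prod]
  rcases Nat.eq_zero_or_pos p with rfl | hp
  · simp
  obtain ⟨q, rfl⟩ : ∃ q, p = q + 1 := ⟨p - 1, by omega⟩
  conv_rhs => rw [prod_range_succ']
  rw [prod_range_succ]
  congr 1
  · exact prod_congr rfl fun j _ => by rw [pow_succ', MulAut.mul_apply]
  · rw [← MulAut.mul_apply, ← pow_succ', hσ, pow_zero]

/-- if the norm of the complement is trivial then the module has exponent the order of the kernel -/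
theorem pow_eq_one_of_frobenius {x a : MulAut W} {p n k : ℕ} [Fact p.Prime] (hn : 0 < n) (hx : x ^ p = 1)
    (hf : ∀ v, x v = v → v = 1) (hax : a * x = x ^ k * a) (hk : ∀ i, 0 < i → i < n → (k : ZMod p) ^ i ≠ 1)
    (hN : ∀ v, ∏ i ∈ range n, (a ^ i) v = 1) (v : W) : v ^ p = 1 := by
  classical
  have hcomm : ∀ i j : ℕ, a ^ i * x ^ j = x ^ (k ^ i * j) * a ^ i := by
    intro i
    induction i with
    | zero => intro j; simp
    | succ i ih =>
      intro j
      have h1 : ∀ j : ℕ, a * x ^ j = x ^ (k * j) * a := by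
        intro j
        induction j with
        | zero => simp
        | succ j ihj => rw [pow_succ, ← mul_assoc, ihj, mul_assoc, hax, ← mul_assoc, ← pow_add, Nat.mul_succ]
      rw [pow_succ, mul_assoc, h1, ← mul_assoc, ih, mul_assoc, ← pow_succ]
      congr 2
      rw [pow_succ]
      ring
  -- the double product
  have key : ∀ i : ℕ, i < n → 0 < i → ∏ j ∈ range p, (x ^ j * a ^ i * x ^ ((p - 1) * j)) v = 1 := by
    intro i hi hi0
    set c : ZMod p := 1 - (k : ZMod p) ^ i with hc
    have hc0 : c ≠ 0 := fun e => hk i hi0 hi (sub_eq_zero.1 e).symm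
    have hterm : ∀ j : ℕ, (x ^ j * a ^ i * x ^ ((p - 1) * j)) v = (x ^ ((c * (j : ZMod p)).val)) ((a ^ i) v) := by
      intro j
      rw [mul_assoc, hcomm, ← mul_assoc, ← pow_add, MulAut.mul_apply]
      refine congrArg (fun φ : MulAut W => φ ((a ^ i) v))
        (pow_eq_pow_iff_modEq.2 (Nat.ModEq.of_dvd (orderOf_dvd_of_pow_eq_one hx) ?_))
      rw [← ZMod.natCast_eq_natCast_iff]
      rw [ZMod.natCast_val, ZMod.cast_id, hc]
      push_cast [Nat.cast_sub (Fact.out (p := p.Prime)).one_le]
      rw [ZMod.natCast_self]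
      ring
    simp only [hterm]
    refine (prod_bij' (s := range p) (t := range p) (g := fun j : ℕ => (x ^ j) ((a ^ i) v))
      (fun (j : ℕ) _ => ((c * (j : ZMod p)).val)) (fun (j : ℕ) _ => ((c⁻¹ * (j : ZMod p)).val)) ?_ ?_ ?_ ?_ ?_).trans
      (norm_eq_one hx hf ((a ^ i) v))
    · exact fun j _ => mem_range.2 (ZMod.val_lt _)
    · exact fun j _ => mem_range.2 (ZMod.val_lt _)
    · intro j hj
      rw [ZMod.natCast_val, ZMod.cast_id, ← mul_assoc, inv_mul_cancel₀ hc0, one_mul,
        ZMod.val_natCast_of_lt (mem_range.1 hj)]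
    · intro j hj
      rw [ZMod.natCast_val, ZMod.cast_id, ← mul_assoc, mul_inv_cancel₀ hc0, one_mul,
        ZMod.val_natCast_of_lt (mem_range.1 hj)]
    · exact fun _ _ => rfl
  have hall : ∏ j ∈ range p, ∏ i ∈ range n, (x ^ j * a ^ i * x ^ ((p - 1) * j)) v = 1 := by
    refine prod_eq_one fun j _ => ?_
    have : ∀ i, (x ^ j * a ^ i * x ^ ((p - 1) * j)) v = (x ^ j) ((a ^ i) ((x ^ ((p - 1) * j)) v)) := fun i => rfl
    simp only [this]
    rw [← map_prod, hN, map_one]
  rw [prod_comm] at hall
  obtain ⟨q, rfl⟩ : ∃ q, n = q + 1 := ⟨n - 1, by omega⟩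
  rw [prod_range_succ', prod_eq_one (fun i hi => key (i + 1) (by have := mem_range.1 hi; omega) (by omega)),
    one_mul] at hall
  have hone : ∀ j : ℕ, (x ^ j * a ^ 0 * x ^ ((p - 1) * j)) v = v := by
    intro j
    rw [pow_zero, mul_one, ← pow_add]
    have : j + (p - 1) * j = p * j := by
      have := (Fact.out (p := p.Prime)).one_le
      rw [Nat.sub_mul, one_mul]
      have := Nat.le_mul_of_pos_left j (show 0 < p by omega)
      omega
    rw [this, pow_mul, hx, one_pow, MulAut.one_apply]
  simp only [hone, prod_const, card_range] at hall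
  exact hall

end Cfsg.Lib.CITExt
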