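import Cfsg.Agent.CITExt.Socle
import Cfsg.Agent.Components.Misc.Zsigmondy
import Cfsg.Agent.PrimePowerOrders.Arith
import Cfsg.Agent.S3633

/-!
Groups with the prime graph of `PSL₂` over a field of `2^m` elements.
-/

set_option autoImplicit false
set_option linter.unusedSectionVars false
set_option linter.style.haveILetI false

namespace Cfsg.Lib.CITExt

open Subgroup Cfsg.Lib.CITGroups

theorem dvd_pow_gcd {r a b : ℕ} (ha : r ∣ 2 ^ a - 1) (hb : r ∣ 2 ^ b - 1) : r ∣ 2 ^ Nat.gcd a b - 1 := by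
  rw [← Nat.pow_sub_one_gcd_pow_sub_one]
  exact Nat.dvd_gcd ha hb

theorem eq_of_dvd_lt {g n : ℕ} (hn : 0 < n) (hg : g ∣ n) (hlt : n < 2 * g) : g = n := by
  obtain ⟨c, rfl⟩ := hg
  rcases c with _ | _ | c
  · simp at hn
  · simp
  · nlinarith

/-- a primitive prime divisor of `2 ^ (2m) - 1` -/
theorem exists_primitive {m : ℕ} (hm : 4 ≤ m) :
    ∃ R : ℕ, R.Prime ∧ R ≠ 2 ∧ R ∣ 2 ^ (2 * m) - 1 ∧ ∀ a, R ∣ 2 ^ a - 1 → 2 * m ∣ a := by
  obtain ⟨R, hR, hd, hmin⟩ := Cfsg.Lib.Zsigmondy.zsigmondy 2 (2 * m) one_lt_two (by omega) (by omega) (by omega)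
  refine ⟨R, hR, fun e => ?_, hd, fun a ha => ?_⟩
  · subst e
    have h1 : 2 ∣ 2 ^ (2 * m) := dvd_pow_self 2 (by omega)
    have h2 := Nat.one_le_two_pow (n := 2 * m)
    omega
  · by_contra hna
    have h1 := dvd_pow_gcd hd ha
    have hpos : 0 < Nat.gcd (2 * m) a := Nat.gcd_pos_of_pos_left _ (by omega)
    have hlt : Nat.gcd (2 * m) a < 2 * m := lt_of_le_of_ne (Nat.gcd_le_left _ (by omega))
      fun e => hna (e ▸ Nat.gcd_dvd_right _ _)
    exact hmin _ hpos hlt h1

theorem dvd_two_pow_false {r k : ℕ} (hr : r.Prime) (hr2 : r ≠ 2) : ¬ r ∣ 2 ^ k := fun h =>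
  hr2 ((Nat.prime_dvd_prime_iff_eq hr Nat.prime_two).1 (hr.dvd_of_dvd_pow h))

theorem small_primes {r : ℕ} (hr : r.Prime) (h : r ∣ 241920) : r = 2 ∨ r = 3 ∨ r = 5 ∨ r = 7 := by
  rw [show (241920 : ℕ) = 2 ^ 8 * 3 ^ 3 * 5 * 7 by norm_num] at h
  rcases (Nat.Prime.dvd_mul hr).1 h with h | h
  · rcases (Nat.Prime.dvd_mul hr).1 h with h | h
    · rcases (Nat.Prime.dvd_mul hr).1 h with h | h
      · exact Or.inl ((Nat.prime_dvd_prime_iff_eq hr Nat.prime_two).1 (hr.dvd_of_dvd_pow h))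
      · exact Or.inr (Or.inl ((Nat.prime_dvd_prime_iff_eq hr Nat.prime_three).1 (hr.dvd_of_dvd_pow h)))
    · exact Or.inr (Or.inr (Or.inl ((Nat.prime_dvd_prime_iff_eq hr Nat.prime_five).1 h)))
  · exact Or.inr (Or.inr (Or.inr ((Nat.prime_dvd_prime_iff_eq hr (by norm_num)).1 h)))

theorem not_small {m : ℕ} (hm : 4 ≤ m)
    (hsub : ∀ r : ℕ, r.Prime → r ≠ 2 → r ∣ 2 ^ (2 * m) - 1 → r ∣ 241920) : False := by
  obtain ⟨R, hR, hR2, hd, hmin⟩ := exists_primitive hm
  rcases small_primes hR (hsub R hR hR2 hd) with rfl | rfl | rfl | rfl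
  · exact hR2 rfl
  · have := Nat.le_of_dvd two_pos (hmin 2 (by norm_num)); omega
  · have := Nat.le_of_dvd (by norm_num) (hmin 4 (by norm_num)); omega
  · have := Nat.le_of_dvd (by norm_num) (hmin 3 (by norm_num)); omega

theorem not_fermat_mersenne {m p k : ℕ} (hm : 4 ≤ m) (hp : p.Prime) (h5 : 5 ≤ p)
    (hk : p = 2 ^ k + 1 ∨ p + 1 = 2 ^ k) (hpd : p ∣ 2 ^ (2 * m) - 1)
    (hsub : ∀ r : ℕ, r.Prime → r ≠ 2 → r ∣ 2 ^ (2 * m) - 1 → r ∣ p * (p ^ 2 - 1)) : False := by
  obtain ⟨R, hR, hR2, hd, hmin⟩ := exists_primitive hm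
  have hk2 : 2 ≤ k := by
    by_contra h
    interval_cases k <;> norm_num at hk <;> omega
  have hp2 : p ^ 2 - 1 = (p + 1) * (p - 1) := by
    have := Nat.sq_sub_sq p 1
    rwa [one_pow] at this
  obtain ⟨j, rfl⟩ : ∃ j, k = j + 1 := ⟨k - 1, by omega⟩
  have hj : 1 ≤ 2 ^ j := Nat.one_le_two_pow
  have hjs : 2 ^ (j + 1) = 2 * 2 ^ j := by rw [pow_succ]; ring
  rcases hk with hk | hk
  · -- p = 2^k + 1
    have hodd : ∀ r : ℕ, r.Prime → r ≠ 2 → r ∣ 2 ^ (2 * m) - 1 → r = p ∨ r ∣ 2 ^ j + 1 := by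
      intro r hr hr2 h
      have h1 := hsub r hr hr2 h
      rw [hp2, show p - 1 = 2 ^ (j + 1) by omega, show p + 1 = 2 * (2 ^ j + 1) by omega] at h1
      rcases hr.dvd_mul.1 h1 with h1 | h1
      · exact Or.inl ((Nat.prime_dvd_prime_iff_eq hr hp).1 h1)
      rcases hr.dvd_mul.1 h1 with h1 | h1
      · rcases hr.dvd_mul.1 h1 with h1 | h1
        · exact absurd ((Nat.prime_dvd_prime_iff_eq hr Nat.prime_two).1 h1) hr2
        · exact Or.inr h1
      · exact absurd h1 (dvd_two_pow_false hr hr2)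
    have hpk : p ∣ 2 ^ (2 * (j + 1)) - 1 := by
      rw [mul_comm 2, pow_mul, show ((2 : ℕ) ^ (j + 1)) ^ 2 - 1 = (2 ^ (j + 1) + 1) * (2 ^ (j + 1) - 1) by
        have := Nat.sq_sub_sq (2 ^ (j + 1)) 1; rwa [one_pow] at this, ← hk]
      exact dvd_mul_right _ _
    have hkm : 2 * (j + 1) ∣ 2 * m := by
      have h1 := dvd_pow_gcd hpd hpk
      have hpos : 0 < Nat.gcd (2 * m) (2 * (j + 1)) := Nat.gcd_pos_of_pos_left _ (by omega)
      have h2 : p ≤ 2 ^ Nat.gcd (2 * m) (2 * (j + 1)) - 1 :=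
        Nat.le_of_dvd (by have := Nat.one_lt_two_pow (n := Nat.gcd (2 * m) (2 * (j + 1))) hpos.ne'; omega) h1
      have h3 : j + 1 < Nat.gcd (2 * m) (2 * (j + 1)) := by
        by_contra hle
        push Not at hle
        have := Nat.pow_le_pow_right two_pos hle
        omega
      have := eq_of_dvd_lt (by omega) (Nat.gcd_dvd_right (2 * m) (2 * (j + 1))) (by omega)
      exact this ▸ Nat.gcd_dvd_left _ _
    have hle := Nat.le_of_dvd (by omega) hkm
    rcases hodd R hR hR2 hd with hRp | hRu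
    · have h1 := Nat.le_of_dvd (by omega) (hmin _ (hRp ▸ hpk))
      have e : j + 1 = m := by omega
      rw [e] at hk
      -- all primes of 2^m - 1 are three
      have h3 : ∀ r : ℕ, r.Prime → r ∣ 2 ^ m - 1 → r = 3 := by
        intro r hr hrd
        have hr2 : r ≠ 2 := fun e2 => by
          subst e2
          have : 2 ∣ 2 ^ m := dvd_pow_self 2 (by omega)
          have := Nat.one_le_two_pow (n := m)
          omega
        have hr' : r ∣ 2 ^ (2 * m) - 1 := hrd.trans (Nat.pow_sub_one_dvd_pow_sub_one 2 (dvd_mul_left m 2))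
        rcases hodd r hr hr2 hr' with h4 | h4
        · have := Nat.le_of_dvd (by have := Nat.one_lt_two_pow (n := m) (by omega); omega) hrd
          omega
        · have h5' : r ∣ 2 * (2 ^ j + 1) := h4.mul_left 2
          have h6 : r ∣ 2 * (2 ^ j + 1) - (2 ^ m - 1) := Nat.dvd_sub h5' hrd
          rw [show 2 * (2 ^ j + 1) - (2 ^ m - 1) = 3 by
            rw [← e, hjs]; omega] at h6
          exact (Nat.prime_dvd_prime_iff_eq hr Nat.prime_three).1 h6
      have hne : 2 ^ m - 1 ≠ 0 := by have := Nat.one_lt_two_pow (n := m) (by omega); omega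
      have hpow := Nat.eq_prime_pow_of_unique_prime_dvd hne (p := 3) fun {d} hd' hdd => h3 d hd' hdd
      generalize (2 ^ m - 1).primeFactorsList.length = i at hpow
      have h8 : 2 ^ m % 8 = 0 := Nat.mod_eq_zero_of_dvd (Nat.pow_dvd_pow 2 (show 3 ≤ m by omega))
      have h9 : 3 ^ i % 8 = 1 ∨ 3 ^ i % 8 = 3 := by
        clear hpow
        induction i with
        | zero => simp
        | succ i ih => rw [pow_succ, Nat.mul_mod]; rcases ih with h | h <;> simp [h]
      have := Nat.one_le_two_pow (n := m)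
      omega
    · have hu : R ∣ 2 ^ (2 * j) - 1 := by
        rw [mul_comm 2, pow_mul, show ((2 : ℕ) ^ j) ^ 2 - 1 = (2 ^ j + 1) * (2 ^ j - 1) by
          have := Nat.sq_sub_sq (2 ^ j) 1; rwa [one_pow] at this]
        exact hRu.mul_right _
      have := Nat.le_of_dvd (by omega) (hmin _ hu)
      omega
  · -- p = 2^k - 1
    have hodd : ∀ r : ℕ, r.Prime → r ≠ 2 → r ∣ 2 ^ (2 * m) - 1 → r = p ∨ r ∣ 2 ^ j - 1 := by
      intro r hr hr2 h
      have h1 := hsub r hr hr2 h
      rw [hp2, show p + 1 = 2 ^ (j + 1) by omega, show p - 1 = 2 * (2 ^ j - 1) by omega] at h1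
      rcases hr.dvd_mul.1 h1 with h1 | h1
      · exact Or.inl ((Nat.prime_dvd_prime_iff_eq hr hp).1 h1)
      rcases hr.dvd_mul.1 h1 with h1 | h1
      · exact absurd h1 (dvd_two_pow_false hr hr2)
      · rcases hr.dvd_mul.1 h1 with h1 | h1
        · exact absurd ((Nat.prime_dvd_prime_iff_eq hr Nat.prime_two).1 h1) hr2
        · exact Or.inr h1
    have hpk : p ∣ 2 ^ (j + 1) - 1 := by rw [show 2 ^ (j + 1) - 1 = p by omega]
    have hkm : j + 1 ∣ 2 * m := by
      have h1 := dvd_pow_gcd hpd hpk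
      have hpos : 0 < Nat.gcd (2 * m) (j + 1) := Nat.gcd_pos_of_pos_left _ (by omega)
      have h2 : p ≤ 2 ^ Nat.gcd (2 * m) (j + 1) - 1 :=
        Nat.le_of_dvd (by have := Nat.one_lt_two_pow (n := Nat.gcd (2 * m) (j + 1)) hpos.ne'; omega) h1
      have h3 : Nat.gcd (2 * m) (j + 1) = j + 1 := by
        refine le_antisymm (Nat.gcd_le_right _ (by omega)) ?_
        by_contra hlt
        push Not at hlt
        have := Nat.pow_lt_pow_right one_lt_two hlt
        omega
      exact h3 ▸ Nat.gcd_dvd_left _ _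
    have hle := Nat.le_of_dvd (by omega) hkm
    rcases hodd R hR hR2 hd with hRp | hRu
    · have h1 := Nat.le_of_dvd (by omega) (hmin _ (hRp ▸ hpk))
      have e : j + 1 = 2 * m := by omega
      have h7 : p = (2 ^ m + 1) * (2 ^ m - 1) := by
        have := Nat.sq_sub_sq (2 ^ m) 1
        rw [one_pow, ← pow_mul, mul_comm m 2, ← e] at this
        omega
      have hm1 : 2 ^ 4 ≤ 2 ^ m := Nat.pow_le_pow_right two_pos hm
      exact Nat.not_prime_mul (a := 2 ^ m + 1) (b := 2 ^ m - 1) (by omega) (by omega) (h7 ▸ hp)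
    · have := Nat.le_of_dvd (by omega) (hmin _ hRu)
      omega

universe u v

variable {F : Type v} [Field F] [Fintype F] {G : Type u} [Group G] [Finite G]

/-- The almost simple case. -/
theorem top_case (m : ℕ) (hm : 4 ≤ m) (hF : Fintype.card F = 2 ^ m) (hcit : CIT G)
    (hns : ¬ Group.IsSolvable G) (hcore : Cfsg.pCore 2 G = ⊥)
    (hprime : ∀ r : ℕ, r.Prime → r ≠ 2 → (r ∣ Nat.card G ↔ r ∣ 2 ^ (2 * m) - 1)) :
    Nonempty (G ≃* Matrix.ProjectiveSpecialLinearGroup (Fin 2) F) := by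
  classical
  obtain ⟨N, hN, hsimple, hna, hC⟩ := exists_socle hcit hns hcore
  haveI := hN
  haveI := hsimple
  have hdvdN : Nat.card ↥N ∣ Nat.card G := card_subgroup_dvd_card N
  have haut : Nat.card G ∣ Nat.card (MulAut ↥N) := (card_dvd_aut hC).2
  rcases classification (hcit.subgroup N) hna with
    ⟨K, i1, i2, hK, ⟨e⟩⟩ | ⟨K, i1, i2, hK, ⟨e⟩⟩ | hsz
  · rcases hK with hK | ⟨n, hK⟩ | ⟨hKp, k, hk⟩
    · exfalso
      refine not_small hm fun r hr hr2 hd => ?_
      rw [mulAut_congr_card e, aut_card_psl_nine hK] at haut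
      exact ((hprime r hr hr2).2 hd).trans (haut.trans (by norm_num))
    · have hn0 : n ≠ 0 := fun h0 => by
        have := Fintype.one_lt_card (α := K)
        rw [hK, h0] at this
        omega
      obtain rfl := eq_top_of_psl_even hcit hn0 hK e
      have hcard : Nat.card G = 2 ^ n * (2 ^ (2 * n) - 1) := by
        rw [← Subgroup.card_top, Nat.card_congr e.toEquiv, psl_card_even hn0 hK, ← pow_mul, mul_comm n 2]
      have hiff : ∀ r : ℕ, r.Prime → r ≠ 2 → (r ∣ 2 ^ (2 * n) - 1 ↔ r ∣ 2 ^ (2 * m) - 1) := by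
        intro r hr hr2
        rw [← hprime r hr hr2, hcard, hr.dvd_mul]
        exact (or_iff_right (dvd_two_pow_false hr hr2)).symm
      obtain ⟨R, hR, hR2, hd, hmin⟩ := exists_primitive hm
      have h1 : m ∣ n := Nat.dvd_of_mul_dvd_mul_left two_pos (hmin _ ((hiff R hR hR2).2 hd))
      have hn4 : 4 ≤ n := hm.trans (Nat.le_of_dvd (by omega) h1)
      obtain ⟨R', hR', hR'2, hd', hmin'⟩ := exists_primitive hn4
      have h2 : n ∣ m := Nat.dvd_of_mul_dvd_mul_left two_pos (hmin' _ ((hiff R' hR' hR'2).1 hd'))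
      obtain ⟨c⟩ := Cfsg.Lib.PrimePowerOrders.psl_congr (F := K) (K := F)
        (by rw [hK, hF, Nat.dvd_antisymm h2 h1])
      exact ⟨(Subgroup.topEquiv.symm.trans e).trans c⟩
    · exfalso
      have hcN := Nat.card_congr e.toEquiv
      have hc := Cfsg.Lib.Classical.SmallPSL.card_psl (F := K) rfl
      rw [← hcN] at hc
      have h5 : 5 ≤ Fintype.card K := by
        by_contra hlt
        push Not at hlt
        have h3 := hKp.two_le
        generalize Fintype.card K = p at *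
        interval_cases p
        · exact card_ne_small hna (a := 1) (b := 1) (by norm_num at hc ⊢; omega)
        · exact card_ne_small hna (a := 2) (b := 1) (by norm_num at hc ⊢; omega)
        · norm_num at hKp
      have hpN : Fintype.card K ∣ Nat.card ↥N := by
        have hd : Fintype.card K ∣ Nat.gcd 2 (Fintype.card K - 1) * Nat.card ↥N := hc ▸ dvd_mul_right _ _
        rcases hKp.dvd_mul.1 hd with h' | h'
        · have := Nat.le_of_dvd (Nat.gcd_pos_of_pos_left _ two_pos) h'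
          have := Nat.gcd_le_left (Fintype.card K - 1) two_pos
          omega
        · exact h'
      refine not_fermat_mersenne hm hKp h5 hk ?_ fun r hr hr2 hd => ?_
      · exact (hprime _ hKp (by omega)).1 (hpN.trans hdvdN)
      · rw [mulAut_congr_card e, aut_card_psl_prime hKp (by omega) rfl] at haut
        exact ((hprime r hr hr2).2 hd).trans haut
  · exfalso
    refine not_small hm fun r hr hr2 hd => ?_
    rw [mulAut_congr_card e, aut_card_psl_three_four hK] at haut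
    exact ((hprime r hr hr2).2 hd).trans haut
  · exfalso
    refine no_suzuki hcit hsz hna ((hprime 3 Nat.prime_three (by norm_num)).2 ?_)
    exact (show 3 ∣ 2 ^ 2 - 1 by norm_num).trans (Nat.pow_sub_one_dvd_pow_sub_one 2 (dvd_mul_right 2 m))

/-- **The groups with the prime graph of `PSL₂(2^m)`.** -/
theorem psl_two_graph (m : ℕ) (hm : 4 ≤ m) (hF : Fintype.card F = 2 ^ m)
    (h1 : ∀ r : ℕ, r.Prime → (r ∣ Nat.card (Matrix.ProjectiveSpecialLinearGroup (Fin 2) F) ↔ r ∣ Nat.card G))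
    (h2 : ∀ r s : ℕ, r.Prime → s.Prime → r ≠ s →
      ((∃ x : Matrix.ProjectiveSpecialLinearGroup (Fin 2) F, orderOf x = r * s) ↔ (∃ y : G, orderOf y = r * s))) :
    Nonempty (G ⧸ Cfsg.pCore 2 G ≃* Matrix.ProjectiveSpecialLinearGroup (Fin 2) F) := by
  classical
  haveI : Fact (Nat.Prime 2) := ⟨Nat.prime_two⟩
  haveI : CharP F 2 := charP_of_card_eq_prime_pow hF
  have hq16 : 2 ^ 4 ≤ 2 ^ m := Nat.pow_le_pow_right two_pos hm
  have heq : 2 ∣ 2 ^ m := dvd_pow_self 2 (by omega)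
  have hspec : ∀ k, (∃ x : Matrix.ProjectiveSpecialLinearGroup (Fin 2) F, orderOf x = k) →
      k ∣ 2 ∨ k ∣ 2 ^ m - 1 ∨ k ∣ 2 ^ m + 1 := by
    intro k hk
    have h := (Cfsg.Lib.GLTwo.psl_spectrum (F := F) 2 k).1 hk
    have hg : Nat.gcd 2 (2 ^ m - 1) = 1 := (Nat.prime_two.coprime_iff_not_dvd).2 (by omega)
    rwa [hF, hg, Nat.div_one, Nat.div_one] at h
  have hsq : (2 ^ m) ^ 2 - 1 = 2 ^ (2 * m) - 1 := by rw [← pow_mul, mul_comm]
  have hfac : 2 ^ (2 * m) - 1 = (2 ^ m + 1) * (2 ^ m - 1) := by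
    rw [← hsq]
    have := Nat.sq_sub_sq (2 ^ m) 1
    rwa [one_pow] at this
  have hprimeL : ∀ r : ℕ, r.Prime → r ≠ 2 →
      (r ∣ Nat.card G ↔ r ∣ 2 ^ (2 * m) - 1) := by
    intro r hr hr2
    rw [← h1 r hr, psl_card_even (by omega) hF, hr.dvd_mul, hsq]
    exact or_iff_right (dvd_two_pow_false hr hr2)
  have hno2 : ∀ r : ℕ, r.Prime → r ≠ 2 → ¬ ∃ y : G, orderOf y = 2 * r := by
    intro r hr hr2 hy
    rcases hspec _ ((h2 2 r Nat.prime_two hr (Ne.symm hr2)).2 hy) with h | h | h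
    · have := Nat.le_of_dvd two_pos h; have := hr.two_le; omega
    · have := (dvd_mul_right 2 r).trans h; omega
    · have := (dvd_mul_right 2 r).trans h; omega
  have hcit : CIT G := by
    intro t ht
    rw [IsPGroup.iff_orderOf]
    rintro ⟨g, hg⟩
    rw [orderOf_mk]
    by_contra hg2
    obtain ⟨r, i, hr, hr2, hri⟩ := exists_odd_prime hg2
    have hc : Commute t (g ^ i) := (Commute.pow_left (mem_centralizer_singleton_iff.1 hg) i).symm
    refine hno2 r hr hr2 ⟨t * g ^ i, ?_⟩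
    rw [hc.orderOf_mul_eq_mul_orderOf_of_coprime (by
      rw [ht, hri]; exact (Nat.coprime_primes Nat.prime_two hr).2 (Ne.symm hr2)), ht, hri]
  have hns : ¬ Group.IsSolvable G := by
    obtain ⟨r, hr, hrd⟩ := Nat.exists_prime_and_dvd (n := 2 ^ m - 1) (by omega)
    obtain ⟨s, hs, hsd⟩ := Nat.exists_prime_and_dvd (n := 2 ^ m + 1) (by omega)
    have hr2 : r ≠ 2 := fun e => by subst e; omega
    have hs2 : s ≠ 2 := fun e => by subst e; omega
    have hno : ∀ x : ℕ, x.Prime → x ≠ 2 → x ∣ 2 ^ m - 1 → ¬ x ∣ 2 ^ m + 1 := by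
      intro x hx hx2 ha hb
      have := Nat.dvd_sub hb ha
      rw [show 2 ^ m + 1 - (2 ^ m - 1) = 2 by omega] at this
      exact hx2 ((Nat.prime_dvd_prime_iff_eq hx Nat.prime_two).1 this)
    have hrs : r ≠ s := fun e => hno r hr hr2 hrd (e ▸ hsd)
    have hrsG : ¬ ∃ y : G, orderOf y = r * s := by
      intro hy
      rcases hspec _ ((h2 r s hr hs hrs).2 hy) with h | h | h
      · exact hr2 ((Nat.prime_dvd_prime_iff_eq hr Nat.prime_two).1 ((dvd_mul_right r s).trans h))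
      · exact hno s hs hs2 ((dvd_mul_left s r).trans h) hsd
      · exact hno r hr hr2 hrd ((dvd_mul_right r s).trans h)
    have hL2 : 2 ∣ Nat.card G := by
      rw [← h1 2 Nat.prime_two, psl_card_even (by omega) hF]
      exact dvd_mul_of_dvd_left heq _
    have hcase := Cfsg.Agent.S3633.result (G := G) ({2, r, s} : Finset ℕ) (by
        rw [Finset.card_insert_of_notMem (by simp [Ne.symm hr2, Ne.symm hs2]),
          Finset.card_insert_of_notMem (by simp [hrs]), Finset.card_singleton]) ⟨?_, ?_⟩ ⊥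
      (Group.isSolvable_of_comm fun a b => Subsingleton.elim _ _)
    · exact hcase.2
    · intro x hx
      simp only [Finset.mem_insert, Finset.mem_singleton] at hx
      rcases hx with rfl | rfl | rfl
      · exact ⟨Nat.prime_two, hL2⟩
      · exact ⟨hr, (hprimeL x hr hr2).2 (hfac ▸ hrd.mul_left _)⟩
      · exact ⟨hs, (hprimeL x hs hs2).2 (hfac ▸ hsd.mul_right _)⟩
    · intro x hx y hy hxy
      simp only [Finset.mem_insert, Finset.mem_singleton] at hx hy
      rcases hx with rfl | rfl | rfl <;> rcases hy with rfl | rfl | rfl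
      all_goals first
        | exact absurd rfl hxy
        | exact hno2 _ hr hr2
        | exact hno2 _ hs hs2
        | exact hrsG
        | (rw [mul_comm]; first | exact hno2 _ hr hr2 | exact hno2 _ hs hs2 | exact hrsG)
  obtain ⟨hcitH, hnsH, hcoreH⟩ := quotient_core hcit hns
  have hprime : ∀ r : ℕ, r.Prime → r ≠ 2 →
      (r ∣ Nat.card (G ⧸ Cfsg.pCore 2 G) ↔ r ∣ 2 ^ (2 * m) - 1) := by
    intro r hr hr2
    obtain ⟨k, hk⟩ := IsPGroup.iff_card.1 (Cfsg.Lib.Components.isPGroup_pCore (G := G) 2)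
    rw [← hprimeL r hr hr2, Subgroup.card_eq_card_quotient_mul_card_subgroup (Cfsg.pCore 2 G), hk, hr.dvd_mul]
    exact (or_iff_left (dvd_two_pow_false hr hr2)).symm
  exact top_case m hm hF hcitH hnsH hcoreH hprime

end Cfsg.Lib.CITExt
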