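import Cfsg.Agent.CITExt.Basic
import Cfsg.Agent.CITExt.Fpf

/-!
The module of a group with involution centralisers of 2-power order: elements of odd order act without fixed
points; a Frobenius group in the quotient leads to a long 2-element.
-/

set_option autoImplicit false
set_option linter.unusedSectionVars false
set_option linter.style.haveILetI false

namespace Cfsg.Lib.CITExt

open Subgroup Cfsg.Lib.CITGroups Finset

universe u

variable {G : Type u} [Group G] [Finite G]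

/-- A nontrivial commutative normal 2-subgroup centralised by a given 2-group, with the action of the quotient. -/
theorem exists_module (h : CIT G) {Q : Subgroup G} [Q.Normal] (hQ : IsPGroup 2 ↥Q) (hne : Q ≠ ⊥) :
    ∃ (V : Type u) (_ : CommGroup V) (ι : V →* G) (φ : G ⧸ Q →* MulAut V), Function.Injective ι ∧
      (∀ v, ι v ∈ Q) ∧ (∃ v : V, v ≠ 1) ∧ (∀ v, Two (ι v)) ∧
      (∀ (g : G) (v : V), ι (φ (QuotientGroup.mk' Q g) v) = g * ι v * g⁻¹) ∧
      (∀ c : G ⧸ Q, ¬ Two c → ∀ v, φ c v = v → v = 1) := by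
  haveI : Fact (Nat.Prime 2) := ⟨Nat.prime_two⟩
  haveI : Nontrivial ↥Q := Q.nontrivial_iff_ne_bot.2 hne
  haveI : Nontrivial ↥(center ↥Q) := hQ.center_nontrivial
  set V := (center ↥Q).map Q.subtype with hV
  haveI : V.Normal := inferInstanceAs ((center ↥Q).map Q.subtype).Normal
  have hcomm : ∀ x ∈ V, ∀ q ∈ Q, Commute x q := by
    rintro _ ⟨x, hx, rfl⟩ q hq
    exact congrArg Subtype.val (mem_center_iff.1 hx ⟨q, hq⟩).symm
  haveI : IsMulCommutative ↥V := ⟨⟨fun x y =>
    Subtype.ext (hcomm x x.2 y (map_subtype_le _ y.2)).eq⟩⟩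
  letI : CommGroup ↥V := { (inferInstance : Group ↥V) with mul_comm := fun x y => mul_comm' x y }
  have hker : Q ≤ (MulAut.conjNormal : G →* MulAut ↥V).ker := by
    intro q hq
    rw [MonoidHom.mem_ker]
    refine MulEquiv.ext fun x => Subtype.ext ?_
    rw [MulAut.conjNormal_apply, MulAut.one_apply, ← (hcomm x x.2 q hq).eq, mul_inv_cancel_right]
  have hact : ∀ (g : G) (v : ↥V),
      ((QuotientGroup.lift Q MulAut.conjNormal hker (QuotientGroup.mk' Q g) v : ↥V) : G) = g * v * g⁻¹ :=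
    fun g v => MulAut.conjNormal_apply g v
  refine ⟨↥V, inferInstance, V.subtype, QuotientGroup.lift Q MulAut.conjNormal hker, V.subtype_injective,
    fun v => map_subtype_le _ v.2, ?_, fun v => two_of_mem hQ (map_subtype_le _ v.2), hact, ?_⟩
  · obtain ⟨x, hx⟩ := exists_ne (1 : ↥(center ↥Q))
    exact ⟨⟨((x : ↥Q) : G), ⟨x, x.2, rfl⟩⟩, fun e =>
      hx (Subtype.ext (Subtype.ext (show ((x : ↥Q) : G) = 1 from congrArg Subtype.val e)))⟩
  · intro c hc v hv
    by_contra hv1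
    obtain ⟨g, rfl⟩ := QuotientGroup.mk'_surjective Q c
    have hv' : g * (v : G) * g⁻¹ = v := (hact g v).symm.trans (congrArg Subtype.val hv)
    obtain ⟨k, hk⟩ := h.two_of_comm (two_of_mem hQ (map_subtype_le _ v.2)) (fun e => hv1 (Subtype.ext e))
      (mul_inv_eq_iff_eq_mul.1 hv' : Commute g (v : G))
    obtain ⟨i, -, hi⟩ := (Nat.dvd_prime_pow Nat.prime_two).1 (hk ▸ orderOf_map_dvd (QuotientGroup.mk' Q) g)
    exact hc ⟨i, hi⟩

theorem not_two_of_odd_prime {H : Type*} [Group H] [Finite H] {c : H} {p : ℕ} (hp : p.Prime) (hp2 : p ≠ 2)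
    (hc : orderOf c = p) : ¬ Two c := by
  rintro ⟨k, hk⟩
  rw [hc] at hk
  exact hp2 ((Nat.prime_dvd_prime_iff_eq hp Nat.prime_two).1 (hp.dvd_of_dvd_pow (dvd_of_eq hk)))

/-- lifts of 2-elements are 2-elements -/
theorem two_lift {Q : Subgroup G} [Q.Normal] (hQ : IsPGroup 2 ↥Q) {g : G} (hg : Two (QuotientGroup.mk' Q g)) :
    Two g := by
  obtain ⟨k, hk⟩ := hg
  have hm : g ^ 2 ^ k ∈ Q := by
    refine (QuotientGroup.eq_one_iff _).1 ?_
    show QuotientGroup.mk' Q (g ^ 2 ^ k) = 1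
    rw [map_pow, ← hk, pow_orderOf_eq_one]
  obtain ⟨j, hj⟩ := two_of_mem hQ hm
  have h1 : orderOf g ∣ 2 ^ (k + j) := orderOf_dvd_of_pow_eq_one (by rw [pow_add, pow_mul, ← hj, pow_orderOf_eq_one])
  obtain ⟨i, -, hi⟩ := (Nat.dvd_prime_pow Nat.prime_two).1 h1
  exact ⟨i, hi⟩

/-- A Frobenius group `p : n` in the quotient, `n` a power of two bounding the orders of the 2-elements of `G`,
leaves no room for a core. -/
theorem core_kill_two (h : CIT G) {Q : Subgroup G} [Q.Normal] (hQ : IsPGroup 2 ↥Q) {p n k : ℕ} [Fact p.Prime]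
    (hn : 0 < n) (hexp : ∀ g : G, Two g → g ^ n = 1) {x a : G ⧸ Q} (hp2 : p ≠ 2) (hx : orderOf x = p) (ha : Two a)
    (hax : a * x = x ^ k * a) (hk : ∀ i, 0 < i → i < n → (k : ZMod p) ^ i ≠ 1) : Q = ⊥ := by
  by_contra hne
  obtain ⟨V, iV, ι, φ, hι, hιQ, ⟨v, hv⟩, h2, hφ, hfpf⟩ := exists_module h hQ hne
  obtain ⟨g, rfl⟩ := QuotientGroup.mk'_surjective Q a
  have hg : g ^ n = 1 := hexp g (two_lift hQ ha)
  have hN : ∀ w, ∏ i ∈ range n, ((φ (QuotientGroup.mk' Q g)) ^ i) w = 1 := by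
    intro w
    have hw : Two (ι w * g) := two_lift hQ (by
      rw [map_mul, show QuotientGroup.mk' Q (ι w) = 1 from (QuotientGroup.eq_one_iff _).2 (hιQ w), one_mul]
      exact ha)
    have key : ∀ m : ℕ, (ι w * g) ^ m = ι (∏ i ∈ range m, ((φ (QuotientGroup.mk' Q g)) ^ i) w) * g ^ m := by
      intro m
      induction m with
      | zero => simp
      | succ m ih =>
        rw [pow_succ, ih, prod_range_succ, map_mul, ← map_pow, ← map_pow, hφ, pow_succ]
        group
    have := hexp _ hw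
    rw [key, hg, mul_one] at this
    exact hι (this.trans (map_one ι).symm)
  have h3 : v ^ p = 1 := pow_eq_one_of_frobenius (x := φ x) (a := φ (QuotientGroup.mk' Q g)) hn
    (by rw [← map_pow, ← hx, pow_orderOf_eq_one, map_one]) (hfpf x (not_two_of_odd_prime Fact.out hp2 hx))
    (by rw [← map_mul, hax, map_mul, map_pow]) hk hN v
  obtain ⟨j, hj⟩ := h2 v
  rw [orderOf_injective ι hι] at hj
  exact hv (orderOf_eq_one_iff.1 (Nat.eq_one_of_dvd_coprimes
    (Nat.Coprime.pow_left j ((Nat.coprime_primes Nat.prime_two Fact.out).2 hp2.symm)) (dvd_of_eq hj)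
    (orderOf_dvd_of_pow_eq_one h3)))

/-- A Frobenius group of odd order in the quotient leaves no room for a core. -/
theorem core_kill_odd (h : CIT G) {Q : Subgroup G} [Q.Normal] (hQ : IsPGroup 2 ↥Q) {p n k : ℕ} [Fact p.Prime]
    (hn : n.Prime) (hn2 : n ≠ 2) {x a : G ⧸ Q} (hp2 : p ≠ 2) (hx : orderOf x = p) (ha : orderOf a = n)
    (hax : a * x = x ^ k * a) (hk : ∀ i, 0 < i → i < n → (k : ZMod p) ^ i ≠ 1) : Q = ⊥ := by
  by_contra hne
  obtain ⟨V, iV, ι, φ, hι, hιQ, ⟨v, hv⟩, h2, hφ, hfpf⟩ := exists_module h hQ hne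
  have h3 : v ^ p = 1 := pow_eq_one_of_frobenius (x := φ x) (a := φ a) hn.pos
    (by rw [← map_pow, ← hx, pow_orderOf_eq_one, map_one]) (hfpf x (not_two_of_odd_prime Fact.out hp2 hx))
    (by rw [← map_mul, hax, map_mul, map_pow]) hk
    (norm_eq_one (by rw [← map_pow, ← ha, pow_orderOf_eq_one, map_one])
      (hfpf a (not_two_of_odd_prime hn hn2 ha))) v
  obtain ⟨j, hj⟩ := h2 v
  rw [orderOf_injective ι hι] at hj
  exact hv (orderOf_eq_one_iff.1 (Nat.eq_one_of_dvd_coprimes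
    (Nat.Coprime.pow_left j ((Nat.coprime_primes Nat.prime_two Fact.out).2 hp2.symm)) (dvd_of_eq hj)
    (orderOf_dvd_of_pow_eq_one h3)))

end Cfsg.Lib.CITExt
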