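import Cfsg.Agent.CITExt.Module
import Cfsg.Agent.CITExt.EppoFour
import Cfsg.Agent.Known.AutPSLn.Named

/-!
Groups over `PSL₂(7)`, `PSL₂(9)` and `PSL₃(4)` with involution centralisers of 2-power order and without elements
of order eight.
-/

set_option autoImplicit false
set_option linter.unusedSectionVars false
set_option linter.style.haveILetI false

namespace Cfsg.Lib.CITExt

open Subgroup Cfsg.Lib.CITGroups

universe u

variable {G : Type u} [Group G] [Finite G]

/-- An element centralising an element of odd prime order and an involution is trivial. -/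
theorem eq_one_of_fix (h : CIT G) {g x t : G} {p : ℕ} (hp : p.Prime) (hp2 : p ≠ 2) (hx : orderOf x = p)
    (ht : orderOf t = 2) (hgx : Commute g x) (hgt : Commute g t) : g = 1 :=
  h.comm_two hp hp2 hx (h.two_of_comm ⟨1, by rw [ht, pow_one]⟩ (fun e => by rw [e, orderOf_one] at ht; omega) hgt)
    hgx.symm

/-- a noncyclic subgroup of order nine in the quotient leaves no room for a core -/
theorem core_kill_nine (h : CIT G) {Q : Subgroup G} [Q.Normal] (hQ : IsPGroup 2 ↥Q) (a b : G ⧸ Q) (ha : a ^ 3 = 1)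
    (hb : b ^ 3 = 1) (hc : Commute a b) (ha1 : a ≠ 1) (hb1 : b ≠ 1) (hab : a * b ≠ 1) (haab : a ^ 2 * b ≠ 1) :
    Q = ⊥ := by
  by_contra hne
  obtain ⟨V, iV, ι, φ, hι, -, ⟨v, hv⟩, h2, -, hfpf⟩ := exists_module h hQ hne
  have hfix : ∀ c : G ⧸ Q, c ^ 3 = 1 → c ≠ 1 → ∀ w, φ c w = w → w = 1 := fun c hc3 hc1 =>
    hfpf c (not_two_of_odd_prime Nat.prime_three (by norm_num)
      (((Nat.dvd_prime Nat.prime_three).1 (orderOf_dvd_of_pow_eq_one hc3)).resolve_left
        fun e => hc1 (orderOf_eq_one_iff.1 e)))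
  have h3 := eq_one_of_fpf (φ a) (φ b) (by rw [← map_pow, ha, map_one]) (by rw [← map_pow, hb, map_one])
    (hc.map φ) (hfix a ha ha1) (hfix b hb hb1)
    (by rw [← map_mul]; exact hfix _ (by rw [hc.mul_pow, ha, hb, one_mul]) hab)
    (by
      rw [← map_pow, ← map_mul]
      exact hfix _ (by rw [(hc.pow_left 2).mul_pow, ← pow_mul, pow_mul', ha, hb, one_pow, one_mul]) haab) v
  obtain ⟨k, hk⟩ := h2 v
  rw [orderOf_injective ι hι] at hk
  exact hv (orderOf_eq_one_iff.1 (Nat.eq_one_of_dvd_coprimes (Nat.Coprime.pow_left k (by norm_num))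
    (dvd_of_eq hk) (orderOf_dvd_of_pow_eq_one h3)))

/-- The action on a normal subgroup of trivial centraliser, read in a model of that subgroup. -/
theorem exists_rho {N : Subgroup G} [N.Normal] (hC : centralizer (N : Set G) = ⊥) {P : Type*} [Group P]
    (e : ↥N ≃* P) : ∃ ρ : G →* MulAut P, Function.Injective ρ ∧ ∀ n : ↥N, ρ n = MulAut.conj (e n) := by
  refine ⟨(MulAut.congr e).toMonoidHom.comp MulAut.conjNormal,
    (MulAut.congr e).injective.comp (card_dvd_aut hC).1, fun n => MulEquiv.ext fun x => ?_⟩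
  show e (MulAut.conjNormal (n : G) (e.symm x)) = e n * x * (e n)⁻¹
  rw [show MulAut.conjNormal (n : G) (e.symm x) = n * e.symm x * n⁻¹ from
    Subtype.ext (by rw [MulAut.conjNormal_apply]; rfl), map_mul, map_mul, map_inv, e.apply_symm_apply]

theorem commute_of_fixed {N : Subgroup G} [N.Normal] {P : Type*} [Group P] (e : ↥N ≃* P) {ρ : G →* MulAut P}
    (hρ : Function.Injective ρ) (hρN : ∀ n : ↥N, ρ n = MulAut.conj (e n)) {g : G} {x : P} (hx : ρ g x = x) :
    Commute g ((e.symm x : ↥N) : G) := by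
  refine hρ ?_
  rw [map_mul, map_mul, hρN, e.apply_symm_apply]
  refine MulEquiv.ext fun y => ?_
  simp only [MulAut.mul_apply, MulAut.conj_apply, map_mul, map_inv, hx]

theorem orderOf_symm {N : Subgroup G} {P : Type*} [Group P] (e : ↥N ≃* P) (x : P) :
    orderOf ((e.symm x : ↥N) : G) = orderOf x := by
  rw [orderOf_coe, e.symm.orderOf_eq]

section Two

open Matrix Cfsg.Lib.Known.AutPSL2

variable {F : Type} [Field F] [Fintype F]

local notation "P" => Matrix.ProjectiveSpecialLinearGroup (Fin 2) F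

/-- the Weyl element -/
def wS : Matrix.SpecialLinearGroup (Fin 2) F := ⟨!![0, 1; -1, 0], by simp [Matrix.det_fin_two]⟩

theorem coe_wS : ((wS : Matrix.SpecialLinearGroup (Fin 2) F) : Matrix (Fin 2) (Fin 2) F) = !![0, 1; -1, 0] := rfl

theorem uS_zero : (uS (0 : F)) = 1 := sl_ext (by rw [coe_uS, cone]; simp [Matrix.one_fin_two])

theorem neg_one_center : π (-1 : Matrix.SpecialLinearGroup (Fin 2) F) = 1 := by
  refine (QuotientGroup.eq_one_iff _).2 (Matrix.SpecialLinearGroup.mem_center_iff.2 ⟨-1, by simp, ?_⟩)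
  ext i j
  fin_cases i <;> fin_cases j <;> simp [Matrix.SpecialLinearGroup.coe_neg]

theorem orderOf_w : orderOf (π (wS (F := F))) = 2 := by
  refine orderOf_eq_prime ?_ fun e1 => ?_
  · rw [pow_two, ← map_mul, ← neg_one_center]
    congr 1
    refine sl_ext ?_
    rw [cmul, coe_wS, Matrix.SpecialLinearGroup.coe_neg, cone]
    ext i j
    fin_cases i <;> fin_cases j <;> simp
  · have := π_eq_apply (F := F) (M := 1) (N := wS) (by rw [map_one]; exact e1.symm) 0 1 (by rw [cone]; simp)
    simp [coe_wS] at this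

theorem w_conj_u (x : F) : π wS * π (uS x) * (π wS)⁻¹ = π (vS (-x)) := by
  rw [← map_inv, ← map_mul, ← map_mul]
  congr 1
  refine sl_ext ?_
  rw [cmul, cmul, cinv, coe_wS, coe_uS, coe_vS]
  ext i j
  fin_cases i <;> fin_cases j <;> simp [Matrix.adjugate_fin_two]

theorem w_conj_v (y : F) : π wS * π (vS y) * (π wS)⁻¹ = π (uS (-y)) := by
  rw [← map_inv, ← map_mul, ← map_mul]
  congr 1
  refine sl_ext ?_
  rw [cmul, cmul, cinv, coe_wS, coe_uS, coe_vS]
  ext i j
  fin_cases i <;> fin_cases j <;> simp [Matrix.adjugate_fin_two]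

theorem uS_conj_v : π (uS (1 : F)) * π (vS (-1)) * π (uS (1 : F)) = π wS := by
  rw [← map_mul, ← map_mul]
  congr 1
  refine sl_ext ?_
  rw [cmul, cmul, coe_wS, coe_uS, coe_vS]
  ext i j
  fin_cases i <;> fin_cases j <;> simp

variable {p : ℕ} [Fact p.Prime] [CharP F p]

theorem orderOf_u : orderOf (π (uS (1 : F))) = p := by
  refine orderOf_eq_prime ?_ fun e1 => ?_
  · have : ∀ k : ℕ, π (uS (1 : F)) ^ k = π (uS (k : F)) := by
      intro k
      induction k with
      | zero => simp [uS_zero]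
      | succ k ih => rw [pow_succ, ih, ← map_mul, ← uS_add, Nat.cast_succ]
    rw [this, CharP.cast_eq_zero, uS_zero, map_one]
  · exact one_ne_zero (uS_injective_π (F := F) (by rw [uS_zero, map_one]; exact e1))

end Two

open Matrix Cfsg.Lib.Known.AutPSL2 in
/-- Nothing lies over `PSL₂(7)` or `PSL₂(9)`. -/
theorem eq_top_of_psl_two (h : CIT G) (h8 : ∀ g : G, orderOf g ≠ 8) {N : Subgroup G} [hN : N.Normal]
    (hC : centralizer (N : Set G) = ⊥) {F : Type} [Field F] [Fintype F]
    (hF : Fintype.card F = 7 ∨ Fintype.card F = 9)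
    (e : ↥N ≃* Matrix.ProjectiveSpecialLinearGroup (Fin 2) F) : N = ⊤ := by
  classical
  obtain ⟨ρ, hρ, hρN⟩ := exists_rho hC e
  obtain ⟨p, f, hp, hp2, hf, hpf⟩ : ∃ p f : ℕ, p.Prime ∧ p ≠ 2 ∧ 1 ≤ f ∧ Fintype.card F = p ^ f := by
    rcases hF with e7 | e9
    · exact ⟨7, 1, by norm_num, by norm_num, le_rfl, by rw [e7, pow_one]⟩
    · exact ⟨3, 2, Nat.prime_three, by norm_num, by norm_num, by rw [e9]; norm_num⟩
  haveI := Fact.mk hp
  haveI : CharP F p := charP_of_card_eq_prime_pow hpf
  letI : Algebra (ZMod p) F := ZMod.algebra F p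
  have hne2 : (2 : F) ≠ 0 := by
    have h2 : ((2 : ℕ) : F) ≠ 0 := fun e0 => hp2 ((Nat.prime_dvd_prime_iff_eq hp Nat.prime_two).1
      ((CharP.cast_eq_zero_iff F p 2).1 e0))
    simpa using h2
  rw [eq_top_iff]
  intro g _
  obtain ⟨p₀, a, σ, hdec⟩ := exists_decomp p hf hpf (ρ g)
  have hfixU : fieldAut p σ (π (uS 1)) = π (uS 1) := by rw [fieldAut_u, map_one]
  have hfixW : fieldAut p σ (π wS) = π wS := by
    rw [← uS_conj_v, map_mul, map_mul, fieldAut_u, fieldAut_v, map_one, map_neg, map_one]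
  have hdiagW : diagAut (-1 : Fˣ) (π wS) = π wS := by
    rw [← uS_conj_v, map_mul, map_mul, diagAut_u, diagAut_v]
    have hw : π (wS (F := F))⁻¹ = π wS := by
      rw [map_inv]
      exact inv_eq_of_mul_eq_one_right (mul_self_of_two orderOf_w)
    rw [show (((-1 : Fˣ)) : F) * 1 = -1 by simp, show (((-1 : Fˣ)⁻¹ : Fˣ) : F) * -1 = 1 by simp]
    rw [uS_conj_v, ← hw]
    rw [← map_mul, ← map_mul]
    congr 1
    refine sl_ext ?_
    rw [cmul, cmul, cinv, coe_wS, coe_uS, coe_vS]
    ext i j
    fin_cases i <;> fin_cases j <;> simp [Matrix.adjugate_fin_two]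
  -- moving the inner part away
  have hinner : ∀ d : Matrix.ProjectiveSpecialLinearGroup (Fin 2) F, ∀ α : MulAut (Matrix.ProjectiveSpecialLinearGroup (Fin 2) F),
      ρ g = MulAut.conj d * α → ρ (((e.symm d : ↥N) : G)⁻¹ * g) = α := by
    intro d α hd
    rw [map_mul, map_inv, hρN, e.apply_symm_apply, hd, inv_mul_cancel_left]
  have hmem : ∀ d : Matrix.ProjectiveSpecialLinearGroup (Fin 2) F, ((e.symm d : ↥N) : G)⁻¹ * g = 1 → g ∈ N :=
    fun d h1 => (inv_mul_eq_one.1 h1) ▸ (e.symm d).2
  have hsquare : ∀ (b : Fˣ) (c : Fˣ), a = c * b ^ 2 →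
      ∃ d, ρ g = MulAut.conj d * (diagAut c * fieldAut p σ) := by
    intro b c hac
    obtain ⟨d, hd⟩ := diagAut_sq (F := F) b
    refine ⟨p₀ * d, ?_⟩
    rw [hdec, hac, mul_comm c, map_mul, hd, map_mul, mul_assoc, mul_assoc, mul_assoc]
  have hFodd : ringChar F ≠ 2 := by rw [ringChar.eq F p]; exact hp2
  rcases Classical.em (IsSquare (a : F)) with hsq | hsq
  · obtain ⟨b, hb⟩ := hsq
    have hb0 : b ≠ 0 := fun e0 => a.ne_zero (by rw [hb, e0, mul_zero])
    obtain ⟨d, hd⟩ := hsquare (Units.mk0 b hb0) 1 (Units.ext (by simp [pow_two, hb]))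
    rw [map_one, one_mul] at hd
    refine hmem d (eq_one_of_fix h hp hp2 ((orderOf_symm e _).trans orderOf_u) ((orderOf_symm e _).trans orderOf_w)
      (commute_of_fixed e hρ hρN ?_) (commute_of_fixed e hρ hρN ?_))
    · rw [hinner d _ hd, hfixU]
    · rw [hinner d _ hd, hfixW]
  rcases hF with h7 | h9
  · -- seven elements
    obtain rfl : p = 7 := by
      have := (Nat.prime_dvd_prime_iff_eq hp (by norm_num : Nat.Prime 7)).1 (h7 ▸ hpf ▸ dvd_pow_self p (by omega))
      exact this
    have hns : ¬ IsSquare (-1 : F) := by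
      rw [FiniteField.isSquare_neg_one_iff, h7]
      norm_num
    obtain ⟨b, hb⟩ : IsSquare (-(a : F)) := by
      by_contra hc
      have hm : ∀ x y : F, x ≠ 0 → y ≠ 0 → ¬ IsSquare x → ¬ IsSquare y → IsSquare (x * y) := by
        intro x y hx hy hx' hy'
        rw [← quadraticChar_one_iff_isSquare (mul_ne_zero hx hy), map_mul,
          (quadraticChar_neg_one_iff_not_isSquare).2 hx', (quadraticChar_neg_one_iff_not_isSquare).2 hy']
        norm_num
      have h1 := hm (-1) a (by simp) a.ne_zero hns hsq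
      rw [neg_one_mul] at h1
      exact hc h1
    have hb0 : b ≠ 0 := fun e0 => a.ne_zero (by rw [← neg_eq_zero, hb, e0, mul_zero])
    obtain ⟨d, hd⟩ := hsquare (Units.mk0 b hb0) (-1) (Units.ext (by simp [pow_two, ← hb]))
    have h3 : (3 : F) ≠ 0 := by
      have : ((3 : ℕ) : F) ≠ 0 := fun e0 => by
        have := (CharP.cast_eq_zero_iff F 7 3).1 e0
        norm_num at this
      simpa using this
    let D : Matrix.SpecialLinearGroup (Fin 2) F := ⟨!![3, 0; 0, 3⁻¹], by simp [Matrix.det_fin_two, h3]⟩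
    have hD3 : orderOf (π D) = 3 := by
      refine orderOf_eq_prime ?_ fun e1 => ?_
      · rw [← map_pow, ← neg_one_center]
        congr 1
        refine sl_ext ?_
        rw [pow_three, cmul, cmul, Matrix.SpecialLinearGroup.coe_neg, cone]
        have h28 : (3 : F) * (3 * 3) = -1 := by
          have h7' : ((7 : ℕ) : F) = 0 := CharP.cast_eq_zero F 7
          push_cast at h7'
          linear_combination (4 : F) * h7'
        have h28' : (3 : F)⁻¹ * (3⁻¹ * 3⁻¹) = -1 := by rw [← mul_inv, ← mul_inv, h28, inv_neg, inv_one]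
        ext i j
        fin_cases i <;> fin_cases j <;> simp [D, h28, h28']
      · obtain ⟨c, hc, hc'⟩ := π_eq (F := F) (M := 1) (N := D) (by rw [map_one]; exact e1.symm)
        have h00 := congrFun (congrFun hc' 0) 0
        simp [D, cone] at h00
        rw [← h00] at hc
        have h7' : ((7 : ℕ) : F) = 0 := CharP.cast_eq_zero F 7
        push_cast at h7'
        exact one_ne_zero (show (1 : F) = 0 by linear_combination hc - h7')
    have hDfix : diagAut (-1 : Fˣ) (fieldAut 7 σ (π D)) = π D := by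
      have h3σ : σ (3 : F) = 3 := map_ofNat σ 3
      have e1 : fieldAut 7 σ (π D) = π D := by
        show π (Matrix.SpecialLinearGroup.map _ D) = _
        congr 1
        ext i j
        change σ ((D : Matrix (Fin 2) (Fin 2) F) i j) = _
        fin_cases i <;> fin_cases j <;> simp [D, h3σ]
      rw [e1]
      show π (conjSL (diagGL (-1)) D) = _
      congr 1
      refine sl_ext ?_
      rw [coe_conjSL, ← map_inv, coe_diagGL, coe_diagGL]
      ext i j
      fin_cases i <;> fin_cases j <;> simp [D, Matrix.mul_apply, Fin.sum_univ_two]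
    refine hmem d (eq_one_of_fix h Nat.prime_three (by norm_num) ((orderOf_symm e _).trans hD3)
      ((orderOf_symm e _).trans orderOf_w) (commute_of_fixed e hρ hρN ?_) (commute_of_fixed e hρ hρN ?_))
    · rw [hinner d _ hd, MulAut.mul_apply, hDfix]
    · rw [hinner d _ hd, MulAut.mul_apply, hfixW, hdiagW]
  · -- nine elements
    exfalso
    obtain rfl : p = 3 := (Nat.prime_dvd_prime_iff_eq hp Nat.prime_three).1
      (hp.dvd_of_dvd_pow (show p ∣ 3 ^ 2 by rw [show (3 : ℕ) ^ 2 = 9 by norm_num, ← h9, hpf]; exact dvd_pow_self p (by omega)))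
    have ha4 : (a : F) ^ 4 = -1 := by
      have := FiniteField.isSquare_iff hFodd a.ne_zero
      rcases FiniteField.pow_dichotomy hFodd a.ne_zero with h1 | h1
      · exact absurd (this.2 h1) hsq
      · rwa [h9] at h1
    have hne1 : diagAut (-1 : Fˣ) ≠ 1 := by
      intro e1
      have := DFunLike.congr_fun e1 (π (uS (1 : F)))
      rw [diagAut_u, MulAut.one_apply] at this
      have h := uS_injective_π this
      simp at h
      exact hne2 (by linear_combination -h)
    obtain ⟨d, hd⟩ : ∃ d, ρ g = MulAut.conj d * (diagAut a * fieldAut 3 σ) := ⟨p₀, by rw [hdec, mul_assoc]⟩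
    have horder : ∀ g' : G, (∃ k : ℕ, ρ g' ^ k = diagAut a ∧ k ∣ 1) ∨ ρ g' ^ 2 = diagAut (a⁻¹ ^ 2) → False := by
      intro g' hg'
      refine h8 g' (orderOf_eq_prime_pow (p := 2) (n := 2) (fun e1 => ?_) ?_ |>.trans (by norm_num))
      · have e2 := congrArg ρ e1
        rw [map_pow, map_one] at e2
        rcases hg' with ⟨k, hk, hk1⟩ | hk
        · rw [Nat.dvd_one.1 hk1, pow_one] at hk
          rw [hk, ← map_pow] at e2
          exact hne1 (by rw [← e2]; congr 1; exact Units.ext (by simp [ha4]))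
        · rw [show (2 : ℕ) ^ 2 = 2 * 2 by norm_num, pow_mul, hk, ← map_pow] at e2
          exact hne1 (by rw [← e2]; congr 1; exact Units.ext (by simp [← pow_mul, ha4]))
      · refine hρ ?_
        rw [map_pow, map_one]
        rcases hg' with ⟨k, hk, hk1⟩ | hk
        · rw [Nat.dvd_one.1 hk1, pow_one] at hk
          rw [hk, ← map_pow, ← map_one diagAut]
          congr 1
          exact Units.ext (by push_cast; rw [show (a : F) ^ 8 = ((a : F) ^ 4) ^ 2 by ring, ha4]; norm_num)
        · rw [show (2 : ℕ) ^ (2 + 1) = 2 * 4 by norm_num, pow_mul, hk, ← map_pow, ← map_one diagAut]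
          congr 1
          exact Units.ext (by push_cast; rw [← pow_mul, show 2 * 4 = 4 * 2 by norm_num, pow_mul, inv_pow, ha4]; norm_num)
    obtain ⟨i, hi⟩ := (FiniteField.bijective_frobeniusAlgEquivOfAlgebraic_pow (ZMod 3) F).2 σ
    have hσ : σ = 1 ∨ ∀ x, σ x = x ^ 3 := by
      have hcard : Nat.card (ZMod 3) = 3 := Nat.card_zmod 3
      have hfin : Module.finrank (ZMod 3) F = 2 := by
        have := Module.card_eq_pow_finrank (K := ZMod 3) (V := F)
        rw [h9, ZMod.card] at this
        exact (Nat.pow_right_injective (by norm_num : 2 ≤ 3) (this.symm.trans (by norm_num : (9 : ℕ) = 3 ^ 2)))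
      have hi2 : (i : ℕ) < 2 := hfin ▸ i.2
      rcases (by omega : (i : ℕ) = 0 ∨ (i : ℕ) = 1) with e0 | e0
      · left; rw [← hi]; simp [e0]
      · right; intro x; rw [← hi]; simp [e0]
    rcases hσ with rfl | hσ
    · refine horder (((e.symm d : ↥N) : G)⁻¹ * g) (Or.inl ⟨1, ?_, dvd_rfl⟩)
      rw [pow_one, hinner d _ hd, map_one, mul_one]
    · refine horder ((((e.symm d : ↥N) : G)⁻¹ * g) * ((e.symm (π wS) : ↥N) : G)) (Or.inr ?_)
      rw [map_mul, hinner d _ hd, hρN, e.apply_symm_apply, pow_two]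
      refine aut_ext (fun x => ?_) (fun y => ?_)
      · simp only [MulAut.mul_apply, MulAut.conj_apply, w_conj_u, fieldAut_v, diagAut_v, w_conj_v, fieldAut_u,
          diagAut_u, hσ]
        congr 2
        have h9' : x ^ 9 = x := by rw [← h9]; exact FiniteField.pow_card x
        push_cast
        field_simp
        linear_combination h9'
      · simp only [MulAut.mul_apply, MulAut.conj_apply, w_conj_u, fieldAut_v, diagAut_v, w_conj_v, fieldAut_u,
          diagAut_u, hσ]
        congr 2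
        have h9' : y ^ 9 = y := by rw [← h9]; exact FiniteField.pow_card y
        push_cast
        field_simp
        linear_combination h9'

section Three

open Matrix Cfsg.Lib.Known.AutPSLn

variable {F : Type} [Field F] [Fintype F]

theorem graph_eq {X Y : Matrix.SpecialLinearGroup (Fin 3) F}
    (h : (X : Matrix (Fin 3) (Fin 3) F) * (Y : Matrix (Fin 3) (Fin 3) F)ᵀ = 1) :
    graphP (π X) = π Y := by
  rw [graphP_apply]
  congr 1
  refine Subtype.ext ?_
  rw [coe_graphSL]
  have h1 : ((X⁻¹ : Matrix.SpecialLinearGroup (Fin 3) F) : Matrix (Fin 3) (Fin 3) F) * X = 1 := by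
    rw [← Matrix.SpecialLinearGroup.coe_mul, inv_mul_cancel, Matrix.SpecialLinearGroup.coe_one]
  rw [left_inv_eq_right_inv h1 h, Matrix.transpose_transpose]

theorem orderOf_three {X : Matrix.SpecialLinearGroup (Fin 3) F}
    (h3 : (X : Matrix (Fin 3) (Fin 3) F) * (X.1 * X.1) = 1)
    (hne : X.1 0 1 ≠ 0 ∨ X.1 0 0 ≠ X.1 1 1) : orderOf (π X) = 3 := by
  refine orderOf_eq_prime ?_ fun e1 => ?_
  · rw [← map_pow, pow_three, show X * (X * X) = 1 from Subtype.ext h3, map_one]
  · obtain ⟨c, -, hc⟩ := Matrix.SpecialLinearGroup.mem_center_iff.1 ((QuotientGroup.eq_one_iff _).1 e1)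
    rcases hne with h | h <;> apply h <;> rw [← hc] <;> simp

set_option maxHeartbeats 1600000 in
/-- Nothing lies over `PSL₃(4)`. -/
theorem eq_top_of_psl_three (h : CIT G) {N : Subgroup G} [hN : N.Normal] (hC : centralizer (N : Set G) = ⊥)
    (hF : Fintype.card F = 4) (e : ↥N ≃* Matrix.ProjectiveSpecialLinearGroup (Fin 3) F) : N = ⊤ := by
  classical
  haveI := Fact.mk Nat.prime_two
  haveI : CharP F 2 := charP_of_card_eq_prime_pow (p := 2) (f := 2) hF
  have hneg : (-1 : F) = 1 := CharTwo.neg_eq 1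
  obtain ⟨ρ, hρ, hρN⟩ := exists_rho hC e
  rw [eq_top_iff]
  intro g _
  obtain ⟨M, σ, γ, hγ, hdec⟩ := exists_decomp (le_refl 3) (ρ g)
  have hu4 : ∀ x : F, x ≠ 0 → x ^ 3 = 1 := fun x hx => by
    have := FiniteField.pow_card_sub_one_eq_one x hx
    rwa [hF] at this
  set du : Fˣ := Matrix.GeneralLinearGroup.det M with hdu
  set d : F := (du : F) with hd
  have hd0 : d ≠ 0 := du.ne_zero
  have hd3 : d ^ 3 = 1 := hu4 d hd0
  -- splitting off the inner part
  let D : GL (Fin 3) F := GeneralLinearGroup.mk' !![d, 0, 0; 0, 1, 0; 0, 0, 1]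
    (by rw [det_fin_three]; simp; exact invertibleOfNonzero hd0)
  have hDdet : Matrix.GeneralLinearGroup.det D = du := by
    refine Units.ext ?_
    rw [Matrix.GeneralLinearGroup.val_det_apply]
    show det !![d, 0, 0; 0, 1, 0; 0, 0, 1] = d
    rw [det_fin_three]; simp
  let M₁ : Matrix.SpecialLinearGroup (Fin 3) F := ⟨((M * D⁻¹ : GL (Fin 3) F) : Matrix (Fin 3) (Fin 3) F), by
    rw [← Matrix.GeneralLinearGroup.val_det_apply, map_mul, map_inv, hDdet, hdu, mul_inv_cancel, Units.val_one]⟩
  have hMD : M = Matrix.SpecialLinearGroup.toGL M₁ * D := by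
    rw [show Matrix.SpecialLinearGroup.toGL M₁ = M * D⁻¹ from Units.ext rfl, inv_mul_cancel_right]
  have hg' : ρ (((e.symm (π M₁) : ↥N) : G)⁻¹ * g) = conjP D * (fieldP σ * γ) := by
    rw [map_mul, map_inv, hρN, e.apply_symm_apply, hdec, hMD, map_mul, conjP_toGL, mul_assoc, mul_assoc,
      inv_mul_cancel_left]
  set g' := ((e.symm (π M₁) : ↥N) : G)⁻¹ * g with hg'def
  suffices h1 : g' = 1 by exact (inv_mul_eq_one.1 h1) ▸ (e.symm (π M₁)).2
  have hDinv : ((D⁻¹ : GL (Fin 3) F) : Matrix (Fin 3) (Fin 3) F) = !![d⁻¹, 0, 0; 0, 1, 0; 0, 0, 1] := by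
    refine (Units.inv_eq_of_mul_eq_one_right ?_)
    show !![d, 0, 0; 0, 1, 0; 0, 0, 1] * !![d⁻¹, 0, 0; 0, 1, 0; 0, 0, 1] = 1
    ext i j
    fin_cases i <;> fin_cases j <;> simp [Matrix.mul_apply, Fin.sum_univ_three, hd0]
  have hfield : ∀ (X Y : Matrix.SpecialLinearGroup (Fin 3) F),
      (X : Matrix (Fin 3) (Fin 3) F).map σ = Y.1 → fieldP σ (π X) = π Y := fun X Y hXY => by
    rw [fieldP_apply]
    congr 1
    exact Subtype.ext ((coe_fieldSL σ X).trans hXY)
  have hconj : ∀ (X Y : Matrix.SpecialLinearGroup (Fin 3) F),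
      !![d, 0, 0; 0, 1, 0; 0, 0, 1] * X.1 * !![d⁻¹, 0, 0; 0, 1, 0; 0, 0, 1] = Y.1 → conjP D (π X) = π Y :=
    fun X Y hXY => by
      rw [conjP_apply]
      congr 1
      refine Subtype.ext ?_
      rw [coe_conjSL, hDinv]
      exact hXY
  -- the fixed involution
  let W : Matrix.SpecialLinearGroup (Fin 3) F := ⟨!![1, 0, 0; 0, 0, 1; 0, 1, 0], by
    rw [det_fin_three]; simp [hneg]⟩
  have hW2 : orderOf (π W) = 2 := by
    refine orderOf_eq_prime ?_ fun e1 => ?_
    · rw [← map_pow, pow_two, show W * W = 1 from Subtype.ext (show W.1 * W.1 = 1 by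
        ext i j; fin_cases i <;> fin_cases j <;> simp [W, Matrix.mul_apply, Fin.sum_univ_three]), map_one]
    · obtain ⟨c, -, hc⟩ := Matrix.SpecialLinearGroup.mem_center_iff.1 ((QuotientGroup.eq_one_iff _).1 e1)
      have h12 := congrFun (congrFun hc 1) 2
      simp [W] at h12
  have hWfix : (conjP D * (fieldP σ * γ) : MulAut (Matrix.ProjectiveSpecialLinearGroup (Fin 3) F)) (π W) = π W := by
    have h1 : γ (π W) = π W := by
      rcases hγ with rfl | rfl
      · rfl
      · refine graph_eq ?_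
        ext i j
        fin_cases i <;> fin_cases j <;> simp [W, Matrix.mul_apply, Fin.sum_univ_three]
    rw [MulAut.mul_apply, MulAut.mul_apply, h1, hfield W W (by
      ext i j; fin_cases i <;> fin_cases j <;> simp [W]), hconj W W (by
      ext i j; fin_cases i <;> fin_cases j <;> simp [W, Matrix.mul_apply, Fin.sum_univ_three, hd0])]
  -- reduction to a fixed element of order three
  suffices hx : ∃ X : Matrix.SpecialLinearGroup (Fin 3) F, orderOf (π X) = 3 ∧
      (conjP D * (fieldP σ * γ) : MulAut (Matrix.ProjectiveSpecialLinearGroup (Fin 3) F)) (π X) = π X by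
    obtain ⟨X, hX, hXfix⟩ := hx
    exact eq_one_of_fix h Nat.prime_three (by norm_num) ((orderOf_symm e _).trans hX) ((orderOf_symm e _).trans hW2)
      (commute_of_fixed e hρ hρN (hg'.symm ▸ hXfix)) (commute_of_fixed e hρ hρN (hg'.symm ▸ hWfix))
  by_cases hd1 : d = 1
  · let B : Matrix.SpecialLinearGroup (Fin 3) F := ⟨!![0, 1, 0; 0, 0, 1; 1, 0, 0], by rw [det_fin_three]; simp⟩
    refine ⟨B, orderOf_three (by ext i j; fin_cases i <;> fin_cases j <;>
      simp [B, Matrix.mul_apply, Fin.sum_univ_three]) (Or.inl (by simp [B])), ?_⟩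
    have h1 : γ (π B) = π B := by
      rcases hγ with rfl | rfl
      · rfl
      · refine graph_eq ?_
        ext i j
        fin_cases i <;> fin_cases j <;> simp [B, Matrix.mul_apply, Fin.sum_univ_three]
    rw [MulAut.mul_apply, MulAut.mul_apply, h1, hfield B B (by
      ext i j; fin_cases i <;> fin_cases j <;> simp [B]), hconj B B (by
      ext i j; fin_cases i <;> fin_cases j <;> simp [B, Matrix.mul_apply, Fin.sum_univ_three, hd1])]
  have hdd : d ^ 2 + d + 1 = 0 := by
    have : (d - 1) * (d ^ 2 + d + 1) = 0 := by linear_combination hd3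
    exact (mul_eq_zero.1 this).resolve_left (sub_ne_zero.2 hd1)
  have hσd : σ d = d ∨ σ d = d ^ 2 := by
    have h1 : σ d ^ 2 + σ d + 1 = 0 := by rw [← map_pow, ← map_add, ← map_one σ, ← map_add, hdd, map_zero]
    have h2 : (σ d - d) * (σ d - d ^ 2) = 0 := by linear_combination h1 - (σ d) * hdd + hd3
    rcases mul_eq_zero.1 h2 with h3 | h3
    · exact Or.inl (sub_eq_zero.1 h3)
    · exact Or.inr (sub_eq_zero.1 h3)
  have hd4 : d ^ 4 = d := by linear_combination d * hd3
  have hdi : d⁻¹ = d ^ 2 := inv_eq_of_mul_eq_one_right (by linear_combination hd3)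
  let A : Matrix.SpecialLinearGroup (Fin 3) F := ⟨!![1, 0, 0; 0, d, 0; 0, 0, d ^ 2], by
    rw [det_fin_three]; simp; linear_combination hd3⟩
  let A' : Matrix.SpecialLinearGroup (Fin 3) F := ⟨!![1, 0, 0; 0, d ^ 2, 0; 0, 0, d], by
    rw [det_fin_three]; simp; linear_combination hd3⟩
  let X : Matrix.SpecialLinearGroup (Fin 3) F := ⟨!![0, d ^ 2, 0; 0, 0, 1; d, 0, 0], by
    rw [det_fin_three]; simp; linear_combination hd3⟩
  let Y : Matrix.SpecialLinearGroup (Fin 3) F := ⟨!![0, d, 0; 0, 0, 1; d ^ 2, 0, 0], by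
    rw [det_fin_three]; simp; linear_combination hd3⟩
  have hA : orderOf (π A) = 3 := orderOf_three (by
    ext i j; fin_cases i <;> fin_cases j <;> simp [A, Matrix.mul_apply, Fin.sum_univ_three] <;>
      first | linear_combination hd3 | linear_combination hd3 * (1 + d ^ 3))
    (Or.inr (by simp [A]; exact Ne.symm hd1))
  have hX : orderOf (π X) = 3 := orderOf_three (by
    ext i j; fin_cases i <;> fin_cases j <;> simp [X, Matrix.mul_apply, Fin.sum_univ_three] <;>
      linear_combination hd3) (Or.inl (by simp [X, hd0]))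
  have cA : conjP D (π A) = π A := hconj A A (by
    ext i j; fin_cases i <;> fin_cases j <;> simp [A, Matrix.mul_apply, Fin.sum_univ_three, hd0])
  have cY : conjP D (π Y) = π X := hconj Y X (by
    ext i j; fin_cases i <;> fin_cases j <;> simp [X, Y, Matrix.mul_apply, Fin.sum_univ_three, hdi] <;>
      first | linear_combination hd4 | linear_combination hd3 | ring)
  rcases hγ with rfl | rfl <;> rcases hσd with hs | hs
  · refine ⟨A, hA, ?_⟩
    rw [mul_one, MulAut.mul_apply, hfield A A (by ext i j; fin_cases i <;> fin_cases j <;> simp [A, hs]), cA]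
  · refine ⟨X, hX, ?_⟩
    rw [mul_one, MulAut.mul_apply, hfield X Y (by
      ext i j; fin_cases i <;> fin_cases j <;> simp [X, Y, hs] <;> linear_combination hd4), cY]
  · refine ⟨X, hX, ?_⟩
    rw [MulAut.mul_apply, MulAut.mul_apply, graph_eq (Y := Y) (by
      ext i j; fin_cases i <;> fin_cases j <;> simp [X, Y, Matrix.mul_apply, Fin.sum_univ_three] <;>
        linear_combination hd3), hfield Y Y (by
      ext i j; fin_cases i <;> fin_cases j <;> simp [Y, hs]), cY]
  · refine ⟨A, hA, ?_⟩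
    rw [MulAut.mul_apply, MulAut.mul_apply, graph_eq (Y := A') (by
      ext i j; fin_cases i <;> fin_cases j <;> simp [A, A', Matrix.mul_apply, Fin.sum_univ_three] <;>
        linear_combination hd3), hfield A' A (by
      ext i j; fin_cases i <;> fin_cases j <;> simp [A, A', hs] <;> linear_combination hd4), cA]

end Three

end Cfsg.Lib.CITExt
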