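import Cfsg.Agent.CITExt.Almost
import Cfsg.Agent.Known.AutPSL2
import Cfsg.Agent.Known.SLTwo.Spectrum
import Cfsg.Agent.Classical.Misc.SmallPSL
import Cfsg.Agent.S0813
import Cfsg.Agent.Chars.Burnside

/-!
The possible socles: rigidity of the linear groups in characteristic two, exclusion of the groups of Suzuki order,
and the orders of the automorphism groups.
-/

set_option autoImplicit false
set_option linter.unusedSectionVars false
set_option linter.style.haveILetI false

namespace Cfsg.Lib.CITExt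

open Subgroup Cfsg.Lib.CITGroups Cfsg.Lib.Known.AutPSL2

universe u

variable {G : Type u} [Group G] [Finite G]

theorem psl_card_even {F : Type*} [Field F] [Fintype F] {n : ℕ} (hn : n ≠ 0) (hF : Fintype.card F = 2 ^ n) :
    Nat.card (Matrix.ProjectiveSpecialLinearGroup (Fin 2) F) = 2 ^ n * ((2 ^ n) ^ 2 - 1) := by
  have h := Cfsg.Lib.Classical.SmallPSL.card_psl hF
  have h2 : 2 ∣ 2 ^ n := dvd_pow_self 2 hn
  have hgcd : Nat.gcd 2 (2 ^ n - 1) = 1 := by
    refine (Nat.prime_two.coprime_iff_not_dvd).2 fun hd => ?_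
    have := Nat.one_le_two_pow (n := n)
    omega
  rwa [hgcd, one_mul] at h

/-- a simple group has order different from six and twelve unless it is commutative -/
theorem card_ne_small {H : Type u} [Group H] [Finite H] [IsSimpleGroup H] (hna : ¬ IsMulCommutative H) {a b : ℕ} :
    Nat.card H ≠ 2 ^ a * 3 ^ b := by
  intro hc
  haveI := Cfsg.Lib.Chars.burnside_isSolvable 2 3 Nat.prime_two Nat.prime_three H ⟨a, b, hc⟩
  exact hna ⟨⟨IsSimpleGroup.comm_iff_isSolvable.2 inferInstance⟩⟩

/-- In even characteristic nothing lies over `PSL₂`. -/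
theorem eq_top_of_psl_even (h : CIT G) {N : Subgroup G} [hN : N.Normal] {F : Type} [Field F] [Fintype F] {n : ℕ} (hn : n ≠ 0) (hF : Fintype.card F = 2 ^ n)
    (e : ↥N ≃* Matrix.ProjectiveSpecialLinearGroup (Fin 2) F) : N = ⊤ := by
  classical
  haveI : Fact (Nat.Prime 2) := ⟨Nat.prime_two⟩
  haveI : CharP F 2 := charP_of_card_eq_prime_pow hF
  letI : Algebra (ZMod 2) F := ZMod.algebra F 2
  rw [eq_top_iff]
  intro g _
  obtain ⟨α, hα⟩ : ∃ α : MulAut (Matrix.ProjectiveSpecialLinearGroup (Fin 2) F),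
      α = e.symm.trans ((MulAut.conjNormal g : MulAut ↥N).trans e) := ⟨_, rfl⟩
  obtain ⟨p₀, a, σ, hdec⟩ := exists_decomp 2 (Nat.one_le_iff_ne_zero.2 hn) hF α
  obtain ⟨b, hb⟩ : ∃ b : F, b ^ 2 = (a : F) := (bijective_frobenius F 2).2 (a : F)
  have hb0 : b ≠ 0 := fun e0 => a.ne_zero (by rw [← hb, e0, zero_pow two_ne_zero])
  obtain ⟨d, hd⟩ := diagAut_sq (F := F) (Units.mk0 b hb0)
  rw [show (Units.mk0 b hb0) ^ 2 = a from Units.ext hb] at hd
  set p₁ := p₀ * d
  have hact : ∀ x, e (MulAut.conjNormal g (e.symm x)) = p₁ * fieldAut 2 σ x * p₁⁻¹ := by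
    intro x
    have h1 : α x = e (MulAut.conjNormal g (e.symm x)) := by rw [hα]; rfl
    rw [← h1, hdec, hd, ← map_mul]
    rfl
  set m : ↥N := e.symm p₁ with hm
  set g' := (m : G)⁻¹ * g
  have key : ∀ x : Matrix.ProjectiveSpecialLinearGroup (Fin 2) F, fieldAut 2 σ x = x →
      Commute g' (e.symm x : G) := by
    intro x hx
    have h1 := hact x
    rw [hx] at h1
    have h2 : MulAut.conjNormal g (e.symm x) = m * e.symm x * m⁻¹ := by
      apply e.injective
      rw [h1, map_mul, map_mul, map_inv, hm, e.apply_symm_apply, e.apply_symm_apply]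
    have h3 := congrArg Subtype.val h2
    rw [MulAut.conjNormal_apply] at h3
    push_cast at h3
    show (m : G)⁻¹ * g * (e.symm x : G) = (e.symm x : G) * ((m : G)⁻¹ * g)
    calc (m : G)⁻¹ * g * (e.symm x : G) = (m : G)⁻¹ * (g * (e.symm x : G) * g⁻¹) * g := by group
      _ = (e.symm x : G) * ((m : G)⁻¹ * g) := by rw [h3]; group
  set U := π (uS (1 : F))
  set V := π (vS (1 : F))
  have hfU : fieldAut 2 σ U = U := by rw [fieldAut_u, map_one]
  have hfV : fieldAut 2 σ V = V := by rw [fieldAut_v, map_one]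
  have hU2 : orderOf U = 2 := by
    refine orderOf_eq_prime ?_ fun e1 => ?_
    · rw [pow_two, ← map_mul, ← uS_add, CharTwo.add_self_eq_zero,
        show (uS (0 : F)) = 1 from sl_ext (by rw [coe_uS, cone]; simp [Matrix.one_fin_two]), map_one]
    · have := π_eq_apply (F := F) (M := 1) (N := uS 1) (by rw [map_one]; exact e1.symm) 0 1
        (by rw [cone]; simp)
      simp [coe_uS] at this
  have hUV : ¬ Two (U * V) := by
    have hp3 : (U * V) ^ 3 = 1 := by
      rw [← map_mul, ← map_pow]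
      refine (QuotientGroup.eq_one_iff _).2 ?_
      convert one_mem (Subgroup.center (Matrix.SpecialLinearGroup (Fin 2) F))
      refine sl_ext ?_
      simp only [pow_three, cmul, cone, coe_uS, coe_vS]
      ext i j
      fin_cases i <;> fin_cases j <;> simp [Matrix.mul_apply, Fin.sum_univ_two, CharTwo.add_self_eq_zero]
    rintro ⟨k, hk⟩
    have h1 : orderOf (U * V) ∣ 3 := orderOf_dvd_of_pow_eq_one hp3
    rcases (Nat.dvd_prime Nat.prime_three).1 h1 with e1 | e1
    · have e2 : π (vS (1 : F)) = π (uS 1) :=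
        mul_left_cancel ((orderOf_eq_one_iff.1 e1).trans (mul_self_of_two hU2).symm)
      have := π_eq_apply (F := F) e2.symm 1 0 (by simp [coe_uS])
      simp [coe_vS] at this
    · rw [e1] at hk
      have := Nat.Prime.eq_one_of_pow (n := k) (x := 2) (hk ▸ Nat.prime_three)
      subst this
      norm_num at hk
  have ht : orderOf (e.symm U : G) = 2 := by rw [orderOf_coe, e.symm.orderOf_eq, hU2]
  have hg' : Two g' := h.two_of_comm (s := (e.symm U : G)) ⟨1, by rw [ht, pow_one]⟩
    (fun e1 => by rw [e1, orderOf_one] at ht; omega) (key U hfU)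
  have hg1 : g' = 1 := by
    by_contra hne
    refine hUV ?_
    have := h.two_of_comm hg' hne (key (U * V) (by rw [map_mul, hfU, hfV])).symm
    obtain ⟨k, hk⟩ := this
    exact ⟨k, by rwa [orderOf_coe, e.symm.orderOf_eq] at hk⟩
  have : g = (m : G) := (inv_mul_eq_one.1 hg1).symm
  exact this ▸ m.2

/-- Over a group of Suzuki order there is no element of order three. -/
theorem no_suzuki (h : CIT G) {N : Subgroup G} [hN : N.Normal] (hsz : Cfsg.IsSuzuki ↥N)
    (hna : ¬ IsMulCommutative ↥N) (h3 : 3 ∣ Nat.card G) : False := by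
  classical
  haveI := hsz.1
  obtain ⟨M, -, hM⟩ := hsz.2
  have hn3 : ¬ 3 ∣ Nat.card ↥N := by
    rw [hM, Nat.dvd_iff_mod_eq_zero]
    have hQ : 2 ^ (2 * M + 1) % 3 = 2 := by
      rw [pow_succ, pow_mul, Nat.mul_mod, Nat.pow_mod]
      norm_num
    have h1 : 1 ≤ 2 ^ (2 * M + 1) := Nat.one_le_two_pow
    generalize 2 ^ (2 * M + 1) = Q at hQ h1
    have h2 : (Q - 1) % 3 = 1 := by omega
    rw [Nat.mul_mod, Nat.mul_mod (Q ^ 2), Nat.add_mod, Nat.pow_mod, hQ, h2]
    decide
  have hN' := h.subgroup N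
  have hno : NoPair ↥N := by
    refine ⟨fun V h4 hsq hC => hn3 ?_, fun M' V M'' A T W F => hn3 ?_⟩
    · obtain ⟨F, i1, i2, -, ⟨e⟩⟩ := Cfsg.Lib.PrimePowerOrders.exists_psl_of_four' hN' hna V h4 hsq hC
      rw [Nat.card_congr e.toEquiv]
      have hc := Cfsg.Lib.Classical.SmallPSL.card_psl (F := F) rfl
      have hd : 3 ∣ Fintype.card F * (Fintype.card F ^ 2 - 1) := by
        generalize Fintype.card F = q
        rcases (show q % 3 = 0 ∨ q % 3 = 1 ∨ q % 3 = 2 by omega) with hq | hq | hq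
        · exact dvd_mul_of_dvd_left (Nat.dvd_of_mod_eq_zero hq) _
        all_goals
          refine dvd_mul_of_dvd_right ?_ _
          have : q ^ 2 % 3 = 1 := by rw [Nat.pow_mod, hq]
          omega
      rw [← hc] at hd
      refine (Nat.Coprime.dvd_of_dvd_mul_left ?_ hd)
      refine (Nat.prime_three.coprime_iff_not_dvd).2 fun hd3 => ?_
      have := Nat.le_of_dvd (Nat.gcd_pos_of_pos_left _ two_pos) hd3
      have := Nat.gcd_le_left (Fintype.card F - 1) two_pos
      omega
    · obtain ⟨K, i1, i2, hK, ⟨e⟩⟩ := F.exists_psl_three hN' hna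
      rw [Nat.card_congr e.toEquiv]
      have hgm := Cfsg.Lib.Classical.gcd_mul_card_PSL (ι := Fin 3) (F := K)
      have hs := Cfsg.Lib.Classical.card_SL_mul_eq_prod (F := K) (n := 3) (by norm_num)
      rw [Fintype.card_fin, Nat.card_eq_fintype_card (α := K), hK] at hgm
      rw [hK, Fin.prod_univ_three] at hs
      generalize Nat.card (Matrix.SpecialLinearGroup (Fin 3) K) = c at hs hgm
      generalize Nat.card (Matrix.ProjectiveSpecialLinearGroup (Fin 3) K) = d at hgm ⊢
      norm_num at hs hgm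
      omega
  obtain ⟨M', S, L⟩ := exists_closed hN' hna hno
  haveI : Fact (Nat.Prime 2) := ⟨Nat.prime_two⟩
  haveI : Fact (Nat.Prime 3) := ⟨Nat.prime_three⟩
  obtain ⟨g, hg⟩ := exists_prime_orderOf_dvd_card' (G := G) 3 h3
  have h2N : 2 ∣ Nat.card ↥N := by
    rw [hM]
    exact dvd_mul_of_dvd_left (dvd_mul_of_dvd_left (dvd_pow (dvd_pow_self 2 (by omega)) two_ne_zero) _) _
  obtain ⟨t, ht⟩ := exists_prime_orderOf_dvd_card' (G := ↥N) 2 h2N
  letI : MulAction ↥(zpowers g) ↥N :=
    MulAction.compHom ↥N ((MulAut.conjNormal : G →* MulAut ↥N).comp (zpowers g).subtype)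
  let X : SubMulAction ↥(zpowers g) ↥N :=
    { carrier := {v | orderOf v = 2}
      smul_mem' := fun c v hv => by
        show orderOf (MulAut.conjNormal (c : G) v) = 2
        rw [MulEquiv.orderOf_eq]
        exact hv }
  have hX : Nat.card X ∣ Nat.card ↥N := by
    have horb : {v : ↥N | orderOf v = 2} = MulAction.orbit (ConjAct ↥N) t := by
      ext v
      rw [ConjAct.mem_orbit_conjAct]
      exact ⟨fun hv => L.one_class v t hv ht, fun hv => by
        obtain ⟨c, hc⟩ := isConj_iff.1 hv.symm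
        show orderOf v = 2
        rw [← hc, ← MulAut.conj_apply, MulEquiv.orderOf_eq, ht]⟩
    show Nat.card {v : ↥N | orderOf v = 2} ∣ _
    rw [horb, Nat.card_coe_set_eq, ← MulAction.index_stabilizer]
    exact Subgroup.index_dvd_card _
  have hP : IsPGroup 3 ↥(zpowers g) := IsPGroup.of_card (n := 1) (by rw [Nat.card_zpowers, hg, pow_one])
  obtain ⟨⟨v, hv⟩, hfix⟩ := hP.nonempty_fixed_point_of_prime_not_dvd_card X fun hd => hn3 (hd.trans hX)
  have hfx : g * (v : G) * g⁻¹ = v := by
    have := congrArg (fun w : X => ((w : ↥N) : G)) (hfix ⟨g, mem_zpowers g⟩)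
    simpa [MulAut.conjNormal_apply] using (show (((MulAut.conjNormal g) v : ↥N) : G) = v from this)
  have hv2 : orderOf (v : G) = 2 := by rw [orderOf_coe]; exact hv
  obtain ⟨k, hk⟩ := h.two_of_comm (g := g) (s := (v : G)) ⟨1, by rw [hv2, pow_one]⟩
    (fun e1 => by rw [e1, orderOf_one] at hv2; omega) (mul_inv_eq_iff_eq_mul.1 hfx)
  rw [hg] at hk
  exact absurd ((Nat.prime_dvd_prime_iff_eq Nat.prime_three Nat.prime_two).1
    (Nat.prime_three.dvd_of_dvd_pow (dvd_of_eq hk))) (by norm_num)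

theorem aut_card_psl_prime {F : Type*} [Field F] [Fintype F] {p : ℕ} (hp : p.Prime) (h4 : 4 ≤ p)
    (hF : Fintype.card F = p) :
    Nat.card (MulAut (Matrix.ProjectiveSpecialLinearGroup (Fin 2) F)) = p * (p ^ 2 - 1) := by
  haveI := Fact.mk hp
  rw [Cfsg.Agent.S0813.result p 1 le_rfl (by rw [hF, pow_one]) 2 le_rfl (fun _ => by rw [pow_one]; exact h4),
    if_pos rfl, one_mul, one_mul, Cfsg.Lib.Classical.card_PGL, Cfsg.Lib.Classical.SLTwoTori.card_SL2, hF]

theorem aut_card_psl_nine {F : Type*} [Field F] [Fintype F] (hF : Fintype.card F = 9) :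
    Nat.card (MulAut (Matrix.ProjectiveSpecialLinearGroup (Fin 2) F)) = 1440 := by
  haveI := Fact.mk Nat.prime_three
  rw [Cfsg.Agent.S0813.result 3 2 (by norm_num) (by rw [hF]; norm_num) 2 le_rfl (fun _ => by norm_num),
    if_pos rfl, Cfsg.Lib.Classical.card_PGL, Cfsg.Lib.Classical.SLTwoTori.card_SL2, hF]
  norm_num

theorem aut_card_psl_three_four {F : Type*} [Field F] [Fintype F] (hF : Fintype.card F = 4) :
    Nat.card (MulAut (Matrix.ProjectiveSpecialLinearGroup (Fin 3) F)) = 241920 := by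
  haveI := Fact.mk Nat.prime_two
  have hs := Cfsg.Lib.Classical.card_SL_mul_eq_prod (F := F) (n := 3) (by norm_num)
  rw [hF, Fin.prod_univ_three] at hs
  norm_num at hs
  rw [Cfsg.Agent.S0813.result 2 2 (by norm_num) (by rw [hF]; norm_num) 3 (by norm_num) (fun h => by omega),
    if_neg (by norm_num), Cfsg.Lib.Classical.card_PGL]
  omega

theorem mulAut_congr_card {H K : Type*} [Group H] [Group K] (e : H ≃* K) :
    Nat.card (MulAut H) = Nat.card (MulAut K) :=
  Nat.card_congr (MulAut.congr e).toEquiv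

end Cfsg.Lib.CITExt
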