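import Cfsg.Agent.CITExt.Module
import Cfsg.Agent.CITExt.Socle
import Cfsg.Agent.Suz.Lie
import Cfsg.Agent.SuzukiUnique.Main

/-!
Nothing lies over a Suzuki group among the groups with involution centralisers of 2-power order; a Frobenius group
of order twenty.
-/

set_option autoImplicit false
set_option linter.unusedSectionVars false
set_option linter.style.haveILetI false

namespace Cfsg.Lib.CITExt

open Subgroup Cfsg.Lib.CITGroups

universe u

variable {G : Type u} [Group G] [Finite G]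

theorem exists_closed_three {N : Type u} [Group N] [Finite N] [IsSimpleGroup N] (h : CIT N)
    (hna : ¬ IsMulCommutative N) (hn3 : ¬ 3 ∣ Nat.card N) : ∃ M S : Subgroup N, Closed M S := by
  refine exists_closed h hna ⟨fun V h4 hsq hC => hn3 ?_, fun M' V M'' A T W F => hn3 ?_⟩
  · obtain ⟨F, i1, i2, -, ⟨e⟩⟩ := Cfsg.Lib.PrimePowerOrders.exists_psl_of_four' h hna V h4 hsq hC
    rw [Nat.card_congr e.toEquiv]
    have hc := Cfsg.Lib.Classical.SmallPSL.card_psl (F := F) rfl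
    have hd : 3 ∣ Fintype.card F * (Fintype.card F ^ 2 - 1) := by
      generalize Fintype.card F = q
      rcases (show q % 3 = 0 ∨ q % 3 = 1 ∨ q % 3 = 2 by omega) with hq | hq | hq
      · exact dvd_mul_of_dvd_left (Nat.dvd_of_mod_eq_zero hq) _
      all_goals
        refine dvd_mul_of_dvd_right ?_ _
        have : q ^ 2 % 3 = 1 := by rw [Nat.pow_mod, hq]
        omega
    rw [← hc] at hd
    refine (Nat.Coprime.dvd_of_dvd_mul_left ?_ hd)
    refine (Nat.prime_three.coprime_iff_not_dvd).2 fun hd3 => ?_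
    have := Nat.le_of_dvd (Nat.gcd_pos_of_pos_left _ two_pos) hd3
    have := Nat.gcd_le_left (Fintype.card F - 1) two_pos
    omega
  · obtain ⟨K, i1, i2, hK, ⟨e⟩⟩ := F.exists_psl_three h hna
    rw [Nat.card_congr e.toEquiv]
    have hgm := Cfsg.Lib.Classical.gcd_mul_card_PSL (ι := Fin 3) (F := K)
    have hs := Cfsg.Lib.Classical.card_SL_mul_eq_prod (F := K) (n := 3) (by norm_num)
    rw [Fintype.card_fin, Nat.card_eq_fintype_card (α := K), hK] at hgm
    rw [hK, Fin.prod_univ_three] at hs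
    generalize Nat.card (Matrix.SpecialLinearGroup (Fin 3) K) = c at hs hgm
    generalize Nat.card (Matrix.ProjectiveSpecialLinearGroup (Fin 3) K) = d at hgm ⊢
    norm_num at hs hgm
    omega

/-- Nothing lies over a simple group of order prime to three. -/
theorem eq_top_of_three_free (h : CIT G) {N : Subgroup G} [hN : N.Normal] [IsSimpleGroup ↥N]
    (hna : ¬ IsMulCommutative ↥N) (hn3 : ¬ 3 ∣ Nat.card ↥N) : N = ⊤ := by
  classical
  haveI : Fact (Nat.Prime 2) := ⟨Nat.prime_two⟩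
  haveI : Fact (Nat.Prime 3) := ⟨Nat.prime_three⟩
  obtain ⟨M, S, L⟩ := exists_closed_three (h.subgroup N) hna hn3
  obtain ⟨k, hk⟩ := L.card_S
  obtain ⟨t, ht⟩ : ∃ t : ↥S, orderOf t = 2 := by
    refine exists_prime_orderOf_dvd_card' 2 ?_
    rcases k with _ | k
    · exact absurd (card_eq_one.1 (by rw [hk, pow_zero])) L.ne
    · rw [hk]; exact dvd_pow_self 2 k.succ_ne_zero
  set z : ↥N := (t : ↥N) with hz_def
  have hz : orderOf z = 2 := by rw [hz_def, orderOf_coe, ht]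
  have hzS : z ∈ S := t.2
  have hzM : z ∈ M := L.le hzS
  have hzz : z * z = 1 := mul_self_of_two hz
  have hCz := L.cent_inv (h.subgroup N) hz hzM
  have hSz : ∀ s ∈ S, Commute s z := fun s hs => ((L.inv z hz hzM).2 s hs).symm
  rw [eq_top_iff]
  intro g _
  obtain ⟨c, hc⟩ := isConj_iff.1 (L.one_class (MulAut.conjNormal g z) z (by rw [MulEquiv.orderOf_eq, hz]) hz)
  suffices key : ∀ w : G, Commute w (z : G) → w ∈ N by
    have h1 := key ((c : G) * g) (by
      have hc' := congrArg Subtype.val hc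
      push_cast [MulAut.conjNormal_apply] at hc'
      show (c : G) * g * z = z * ((c : G) * g)
      calc (c : G) * g * z = ((c : G) * (g * z * g⁻¹) * (c : G)⁻¹) * ((c : G) * g) := by group
        _ = z * ((c : G) * g) := by rw [hc'])
    simpa [mul_assoc] using N.mul_mem (N.inv_mem c.2) h1
  by_contra hcon
  push Not at hcon
  obtain ⟨w₀, hw₀, hw₀N⟩ := hcon
  have hz2 : Two (z : G) := ⟨1, by rw [orderOf_coe, hz, pow_one]⟩
  have hz1 : (z : G) ≠ 1 := fun e => by rw [← orderOf_coe, e, orderOf_one] at hz; omega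
  obtain ⟨a, ha⟩ := h.two_of_comm hz2 hz1 hw₀
  obtain ⟨j, hj1, hj2⟩ : ∃ j, w₀ ^ 2 ^ j ∉ N ∧ w₀ ^ 2 ^ (j + 1) ∈ N := by
    by_contra hno
    push Not at hno
    have hall : ∀ j, w₀ ^ 2 ^ j ∉ N := by
      intro j
      induction j with
      | zero => simpa using hw₀N
      | succ j ih => exact hno j ih
    exact hall a (by rw [← ha, pow_orderOf_eq_one]; exact N.one_mem)
  set w := w₀ ^ 2 ^ j with hwdef
  have hwz : Commute w (z : G) := hw₀.pow_left _
  have hwN : w ∉ N := hj1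
  have hw2 : w * w ∈ N := by rw [← pow_two, hwdef, ← pow_mul, ← pow_succ]; exact hj2
  have hwT : Two w := h.two_of_comm hz2 hz1 hwz
  set α : MulAut ↥N := MulAut.conjNormal w with hα
  have hαz : α z = z := Subtype.ext (by
    rw [hα, MulAut.conjNormal_apply, hwz.eq, mul_inv_cancel_right])
  have hαS : ∀ s ∈ S, α s ∈ S := fun s hs => by
    rw [← hCz]
    refine mem_centralizer_singleton_iff.2 ?_
    have := ((hSz s hs).map α.toMonoidHom).eq
    simpa [hαz] using this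
  have hαM : ∀ m ∈ M, α m ∈ M := by
    intro m hm
    by_contra hno
    refine L.se (α m) hno z hz hzM ?_
    have h1 : m⁻¹ * z * m ∈ S := by simpa using L.norm m⁻¹ (M.inv_mem hm) z hzS
    rw [show (α m)⁻¹ * z * α m = α (m⁻¹ * z * m) by rw [map_mul, map_mul, map_inv, hαz]]
    exact L.le (hαS _ h1)
  haveI hnorm : (S.subgroupOf M).Normal := L.normal
  set π := QuotientGroup.mk' (S.subgroupOf M) with hπ
  have hπ1 : ∀ m : ↥M, π m = 1 ↔ (m : ↥N) ∈ S := fun m => QuotientGroup.eq_one_iff m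
  let β₀ : ↥M →* ↥M ⧸ S.subgroupOf M :=
    π.comp ((α.toMonoidHom.comp M.subtype).codRestrict M fun m => hαM m m.2)
  have hβker : S.subgroupOf M ≤ β₀.ker := fun m hm => by
    rw [MonoidHom.mem_ker]
    exact (hπ1 _).2 (hαS m hm)
  let β : ↥M ⧸ S.subgroupOf M →* ↥M ⧸ S.subgroupOf M := QuotientGroup.lift _ β₀ hβker
  have hβ : ∀ m : ↥M, β (π m) = π ⟨α m, hαM m m.2⟩ := fun m => rfl
  have hwK : ∀ {x : G}, Commute x (z : G) → ∀ s ∈ S.map N.subtype, x * s * x⁻¹ ∈ S.map N.subtype := by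
    rintro x hx _ ⟨s, hs, rfl⟩
    refine ⟨MulAut.conjNormal x s, ?_, MulAut.conjNormal_apply x s⟩
    show MulAut.conjNormal x s ∈ S
    rw [← hCz]
    refine mem_centralizer_singleton_iff.2 (Subtype.ext ?_)
    push_cast [MulAut.conjNormal_apply]
    have h1 : Commute (s : G) (z : G) := congrArg Subtype.val (hSz s hs).eq
    calc x * s * x⁻¹ * (z : G) = x * (s : G) * (x⁻¹ * z) := by group
      _ = x * (s : G) * ((z : G) * x⁻¹) := by rw [hx.inv_left.eq]
      _ = x * ((s : G) * z) * x⁻¹ := by group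
      _ = x * ((z : G) * s) * x⁻¹ := by rw [h1.eq]
      _ = (z : G) * (x * s * x⁻¹) := by rw [← mul_assoc, hx.eq]; group
  -- the automorphism of the quotient has no fixed point
  have hfix : ∀ x, β x = x → x = 1 := by
    intro x hx
    obtain ⟨m, rfl⟩ := QuotientGroup.mk'_surjective (S.subgroupOf M) x
    by_contra hm1
    have hodd : Odd (orderOf (π m)) := by
      refine Odd.of_dvd_nat ?_ (_root_.orderOf_dvd_natCard _)
      rw [← Subgroup.index_eq_card]
      exact Nat.not_even_iff_odd.1 fun e => L.odd e.two_dvd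
    obtain ⟨p, n, hp, hp2, hpn⟩ := exists_odd_prime (g := π m)
      fun h2 => hm1 (eq_one_of_two_odd h2 hodd)
    have hpd : p ∣ orderOf (m ^ n) := hpn ▸ (map_pow π m n ▸ orderOf_map_dvd π (m ^ n))
    set y := (m ^ n) ^ (orderOf (m ^ n) / p) with hy
    have hyo : orderOf y = p := orderOf_pow_orderOf_div (orderOf_pos _).ne' hpd
    have hyG : orderOf (((y : ↥N) : G)) = p := by rw [orderOf_coe, orderOf_coe, hyo]
    have hfy : β (π y) = π y := by rw [hy, map_pow, map_pow, map_pow, map_pow, hx]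
    have hK : IsPGroup 2 ↥(S.map N.subtype) := L.two.map _
    have hnrm : ∀ {u : G}, (∀ s ∈ S.map N.subtype, u * s * u⁻¹ ∈ S.map N.subtype) →
        u ∈ normalizer ((S.map N.subtype : Subgroup G) : Set G) :=
      fun hu => Cfsg.Lib.PrimePowerOrders.mem_nrm hu
    have hmem := h.fixed_mem hK hp hp2 hyG
      (hnrm (by rintro _ ⟨s, hs, rfl⟩; exact ⟨_, L.norm y y.2 s hs, by simp⟩))
      (hnrm (hwK hwz)) hwT ?_
    · exact hwN (map_subtype_le _ hmem)
    · refine ⟨(y : ↥N) * (α y)⁻¹, ?_, ?_⟩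
      · rw [hβ, ← inv_mul_eq_one, ← map_inv, ← map_mul, hπ1] at hfy
        have h2 := L.norm (α y) (hαM y y.2) _ hfy
        simpa [mul_assoc] using h2
      · show ((y : ↥N) : G) * ((α (y : ↥N) : ↥N) : G)⁻¹ = _
        rw [hα, MulAut.conjNormal_apply]
        group
  -- so it inverts
  have hinvol : ∀ x, β (β x) = x := by
    intro x
    obtain ⟨m, rfl⟩ := QuotientGroup.mk'_surjective (S.subgroupOf M) x
    show β (β (π m)) = π m
    rw [hβ, hβ]
    have hww : (⟨w * w, hw2⟩ : ↥N) ∈ S := by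
      rw [← hCz]
      refine mem_centralizer_singleton_iff.2 (Subtype.ext ?_)
      exact (hwz.mul_left hwz).eq
    refine (eq_comm.1 ((QuotientGroup.mk'_eq_mk' _).2 ⟨m⁻¹ * ⟨α (α m), hαM _ (hαM m m.2)⟩, ?_, by group⟩))
    show (m : ↥N)⁻¹ * α (α m) ∈ S
    have e1 : α (α (m : ↥N)) = ⟨w * w, hw2⟩ * m * (⟨w * w, hw2⟩ : ↥N)⁻¹ := by
      refine Subtype.ext ?_
      rw [hα, MulAut.conjNormal_apply, MulAut.conjNormal_apply]
      push_cast
      group
    rw [e1, show (m : ↥N)⁻¹ * (⟨w * w, hw2⟩ * m * (⟨w * w, hw2⟩ : ↥N)⁻¹) =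
      ((m : ↥N)⁻¹ * ⟨w * w, hw2⟩ * (m : ↥N)⁻¹⁻¹) * (⟨w * w, hw2⟩ : ↥N)⁻¹ by group]
    exact S.mul_mem (L.norm _ (M.inv_mem m.2) _ hww) (S.inv_mem hww)
  have hinv : ∀ x, β x = x⁻¹ := by
    have hinj : Function.Injective fun v => v⁻¹ * β v := by
      intro v u e
      have e' : v⁻¹ * β v = u⁻¹ * β u := e
      have := hfix (u * v⁻¹) (by
        rw [map_mul, map_inv, show β u = u * (v⁻¹ * β v) by rw [e', mul_inv_cancel_left]]
        group)
      exact (mul_inv_eq_one.1 this).symm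
    intro x
    obtain ⟨v, hv⟩ := (Finite.injective_iff_surjective.1 hinj) x
    rw [← hv]
    simp [hinvol]
  have hcomm : ∀ x y : ↥M ⧸ S.subgroupOf M, Commute x y := fun x y => by
    have h1 := hinv (x * y)
    rw [map_mul, hinv, hinv, ← mul_inv_rev, inv_inj] at h1
    exact h1.symm
  -- the action on the involutions
  have hcoset : ∀ p q : ↥M, π p = π q → (p : ↥N) * z * (p : ↥N)⁻¹ = q * z * (q : ↥N)⁻¹ := by
    intro p q hpq
    obtain ⟨s, hs, rfl⟩ := (QuotientGroup.mk'_eq_mk' _).1 hpq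
    have h1 := (hSz (s : ↥N) hs).eq
    push_cast
    rw [show (p : ↥N) * s * z * ((p : ↥N) * s)⁻¹ = p * ((s : ↥N) * z * (s : ↥N)⁻¹) * (p : ↥N)⁻¹ by group, h1]
    group
  have hsep : ∀ p q : ↥M, (p : ↥N) * z * (p : ↥N)⁻¹ = q * z * (q : ↥N)⁻¹ → π p = π q := by
    intro p q hpq
    refine (QuotientGroup.mk'_eq_mk' _).2 ⟨p⁻¹ * q, ?_, by group⟩
    show (p : ↥N)⁻¹ * q ∈ S
    rw [← hCz]
    refine mem_centralizer_singleton_iff.2 ?_
    calc (p : ↥N)⁻¹ * q * z = (p : ↥N)⁻¹ * ((q : ↥N) * z * (q : ↥N)⁻¹) * q := by group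
      _ = z * ((p : ↥N)⁻¹ * q) := by rw [← hpq]; group
  have hodd' : Odd (Nat.card (↥M ⧸ S.subgroupOf M)) := by
    rw [← Subgroup.index_eq_card]
    exact Nat.not_even_iff_odd.1 fun e => L.odd e.two_dvd
  have key : ∀ u : ↥M, π u ≠ 1 → ∃ e : ↥M, π u = π e ^ 2 ∧
      z * ((u : ↥N) * z * (u : ↥N)⁻¹) = e * z * (e : ↥N)⁻¹ := by
    intro u hu
    set v := (u : ↥N) * z * (u : ↥N)⁻¹ with hv
    have hvS : v ∈ S := L.norm u u.2 z hzS
    have hvz : Commute z v := (hSz v hvS).symm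
    have hne : z * v ≠ 1 := by
      intro e1
      have : v = z := mul_left_cancel (e1.trans hzz.symm)
      refine hu ((hπ1 u).2 ?_)
      rw [← hCz]
      exact mem_centralizer_singleton_iff.2 (mul_inv_eq_iff_eq_mul.1 this)
    have hord : orderOf (z * v) = 2 := by
      refine orderOf_eq_prime ?_ hne
      rw [hvz.mul_pow, pow_two, pow_two, hzz, one_mul, hv]
      rw [show (u : ↥N) * z * (u : ↥N)⁻¹ * ((u : ↥N) * z * (u : ↥N)⁻¹) = u * (z * z) * (u : ↥N)⁻¹ by group, hzz]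
      group
    obtain ⟨c, hc⟩ := isConj_iff.1 (L.one_class z (z * v) hz hord)
    have hzvM : z * v ∈ M := M.mul_mem hzM (L.le hvS)
    have hcM : c ∈ M := by
      by_contra hno
      refine L.se c hno (z * v) hord hzvM ?_
      rw [← hc]
      simpa [mul_assoc] using hzM
    refine ⟨⟨c, hcM⟩, ?_, hc.symm⟩
    have e1 := congrArg α hc
    simp only [map_mul, map_inv, hαz, hv] at e1
    rw [hcoset ⟨α c, hαM c hcM⟩ ⟨c, hcM⟩⁻¹
        ((hβ ⟨c, hcM⟩).symm.trans ((hinv _).trans (map_inv π _).symm)),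
      hcoset ⟨α (u : ↥N), hαM _ u.2⟩ u⁻¹
        ((hβ u).symm.trans ((hinv _).trans (map_inv π _).symm))] at e1
    push_cast at e1
    have e2 : (u : ↥N) * c⁻¹ * z * ((u : ↥N) * c⁻¹)⁻¹ = c * z * c⁻¹ := by
      rw [hc]
      calc (u : ↥N) * c⁻¹ * z * ((u : ↥N) * c⁻¹)⁻¹ = u * (c⁻¹ * z * c⁻¹⁻¹) * (u : ↥N)⁻¹ := by group
        _ = u * (z * ((u : ↥N)⁻¹ * z * (u : ↥N)⁻¹⁻¹)) * (u : ↥N)⁻¹ := by rw [e1]
        _ = v * z := by rw [hv]; group
        _ = z * v := hvz.symm.eq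
    have e3 := hsep (u * ⟨c, hcM⟩⁻¹) ⟨c, hcM⟩ (by push_cast; exact e2)
    rw [map_mul, map_inv, mul_inv_eq_iff_eq_mul] at e3
    rw [e3, pow_two]
  have hcube : ∀ x : ↥M ⧸ S.subgroupOf M, x ^ 3 = 1 := by
    intro x
    have hco : (Nat.card (↥M ⧸ S.subgroupOf M)).Coprime 2 := Nat.coprime_two_right.2 hodd'
    rcases eq_or_ne x 1 with rfl | hx
    · exact one_pow 3
    obtain ⟨e, rfl⟩ := QuotientGroup.mk'_surjective (S.subgroupOf M) x
    have hne2 : ∀ y, y ≠ 1 → y ^ 2 ≠ (1 : ↥M ⧸ S.subgroupOf M) := fun y hy e1 =>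
      hy ((powCoprime hco).injective (e1.trans (one_pow 2).symm))
    obtain ⟨e₁, he₁, hq₁⟩ := key (e ^ 2) (by rw [map_pow]; exact hne2 _ hx)
    have h1 : π e₁ = π e := (powCoprime hco).injective (by
      show π e₁ ^ 2 = π e ^ 2
      rw [← he₁, map_pow])
    obtain ⟨e₂, he₂, hq₂⟩ := key ((e ^ 2) ^ 2) (by rw [map_pow]; exact hne2 _ (by rw [map_pow]; exact hne2 _ hx))
    have h2 : π e₂ = π (e ^ 2) := (powCoprime hco).injective (by
      show π e₂ ^ 2 = π (e ^ 2) ^ 2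
      rw [← he₂, map_pow π (e ^ 2) 2])
    rw [hcoset e₁ e h1] at hq₁
    rw [hcoset e₂ (e ^ 2) h2] at hq₂
    have h3 : π ((e ^ 2) ^ 2) = π e := hsep _ _ (by
      rw [← hq₁, ← hq₂, ← mul_assoc z z, hzz, one_mul])
    rw [← pow_mul, map_pow, show 2 * 2 = 3 + 1 from rfl, pow_succ, mul_eq_right] at h3
    exact h3
  have hcard : ∃ i, Nat.card (↥M ⧸ S.subgroupOf M) = 3 ^ i :=
    IsPGroup.iff_card.1 (IsPGroup.iff_orderOf.2 fun x => by
      obtain ⟨i, -, hi⟩ := (Nat.dvd_prime_pow Nat.prime_three).1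
        (show orderOf x ∣ 3 ^ 1 from (pow_one 3).symm ▸ orderOf_dvd_of_pow_eq_one (hcube x))
      exact ⟨i, hi⟩)
  obtain ⟨i, hi⟩ := hcard
  rcases i with _ | i
  · have h1 := L.one_lt_index
    rw [Subgroup.index_eq_card, hi, pow_zero] at h1
    exact lt_irrefl _ h1
  · refine hn3 ((dvd_pow_self 3 i.succ_ne_zero).trans ?_)
    rw [← hi, ← Subgroup.index_eq_card]
    exact (Subgroup.index_dvd_card _).trans (card_subgroup_dvd_card M)

/-- A Frobenius group of order twenty in every Suzuki group. -/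
theorem exists_twenty {F : Type} [Field F] [Fintype F] [CharP F 2] {m : ℕ} (Q : Cfsg.Lib.Suz.Par F m) :
    ∃ x a : ↥(Cfsg.Sz F m), orderOf x = 5 ∧ a ^ 4 = 1 ∧ a * x = x ^ 2 * a := by
  haveI : Fact (Nat.Prime 5) := ⟨Nat.prime_five⟩
  set a := Cfsg.Lib.Suz.T m (1 : F) 0 with ha
  set s := Cfsg.Lib.Suz.T m (0 : F) 1 with hs
  set W := Cfsg.Lib.Suz.W F with hW
  have hsq : a * a = s := by
    rw [ha, hs, Cfsg.Lib.Suz.T_mul Q]
    simp [CharTwo.add_self_eq_zero]
  have hss : s * s = 1 := by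
    rw [hs, Cfsg.Lib.Suz.T_mul Q, ← Cfsg.Lib.Suz.T_zero Q]
    simp [CharTwo.add_self_eq_zero]
  have hWW : W * W = 1 := Cfsg.Lib.Suz.W_sq Q
  have hWsW : W * s * W = a * W * a⁻¹ := Cfsg.Lib.SuzukiUnique.W_T_W Q
  have ha4 : a ^ 4 = 1 := by
    refine (pow_mul a 2 2).trans ?_
    rw [pow_two, pow_two, hsq, hss]
  have hx2 : a * (W * s) * a⁻¹ = (W * s) ^ 2 := by
    rw [pow_two]
    calc a * (W * s) * a⁻¹ = a * W * a⁻¹ * (a * s * a⁻¹) := by group
      _ = W * s * W * s := by rw [← hWsW, ← hsq]; group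
      _ = W * s * (W * s) := by group
  have hmemW : W ∈ Cfsg.Sz F m := Cfsg.Lib.Suz.W_mem Q
  refine ⟨⟨W * s, mul_mem hmemW (Cfsg.Lib.Suz.T_mem Q 0 1)⟩, ⟨a, Cfsg.Lib.Suz.T_mem Q 1 0⟩, ?_,
    Subtype.ext ha4, Subtype.ext (by
      push_cast
      exact mul_inv_eq_iff_eq_mul.1 hx2)⟩
  rw [orderOf_mk]
  set x := W * s with hx
  refine orderOf_eq_prime ?_ fun e1 => ?_
  · have h4 : s * x * s⁻¹ = x ^ 4 := by
      rw [← hsq, show a * a * x * (a * a)⁻¹ = a * (a * x * a⁻¹) * a⁻¹ by group, hx2, pow_two,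
        show a * (x * x) * a⁻¹ = (a * x * a⁻¹) * (a * x * a⁻¹) by group, hx2, ← pow_add]
    have h5 : s * x * s⁻¹ = x⁻¹ := by
      rw [hx, mul_inv_rev, inv_eq_of_mul_eq_one_right hWW, inv_eq_of_mul_eq_one_right hss]
      rw [mul_assoc, mul_assoc, hss, mul_one]
    rw [pow_succ, ← h4, h5, inv_mul_cancel]
  · have e2 : W = s := mul_right_cancel (e1.trans hss.symm)
    have h0 := congrArg (fun g => g • Cfsg.suzukiPointInfinity F) e2
    simp only [hW, hs, Cfsg.Lib.Suz.W_inf m, Cfsg.Lib.Suz.T_inf] at h0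
    exact Cfsg.Lib.Suz.pt_ne_inf _ _ _ h0

end Cfsg.Lib.CITExt
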