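import Cfsg.Agent.CITExt.EppoFour
import Cfsg.Agent.CITExt.OuterLinear
import Cfsg.Agent.CITExt.OuterSuz
import Cfsg.Agent.Known.SLTwo.Spectrum
import Cfsg.Agent.Suz.Partition
import Cfsg.Agent.S0253
import Cfsg.Agent.S0252

/-!
Groups in which no prime divides three element orders: the part in which the centraliser of every involution is a
2-group.
-/

set_option autoImplicit false
set_option linter.unusedSectionVars false
set_option linter.style.haveILetI false

namespace Cfsg.Lib.CITExt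

open Subgroup Cfsg.Lib.CITGroups

universe u v

/-- No prime divides three pairwise distinct element orders. -/
def Three (G : Type*) [Group G] : Prop :=
  ∀ p : ℕ, p.Prime → ∀ a b c : G, orderOf a ≠ orderOf b → orderOf b ≠ orderOf c → orderOf a ≠ orderOf c →
    ¬ (p ∣ orderOf a ∧ p ∣ orderOf b ∧ p ∣ orderOf c)

variable {G : Type u} [Group G] [Finite G]

theorem Three.quotient (h : Three G) (Q : Subgroup G) [Q.Normal] : Three (G ⧸ Q) := by
  intro p hp a b c hab hbc hac
  have lift : ∀ x : G ⧸ Q, ∃ y : G, orderOf y = orderOf x := fun x => by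
    obtain ⟨y, rfl⟩ := QuotientGroup.mk'_surjective Q x
    exact ⟨_, orderOf_pow_orderOf_div (orderOf_pos y).ne' (orderOf_map_dvd (QuotientGroup.mk' Q) y)⟩
  obtain ⟨a', ha⟩ := lift a
  obtain ⟨b', hb⟩ := lift b
  obtain ⟨c', hc⟩ := lift c
  rw [← ha, ← hb] at hab
  rw [← hb, ← hc] at hbc
  rw [← ha, ← hc] at hac
  rw [← ha, ← hb, ← hc]
  exact h p hp a' b' c' hab hbc hac

/-- Every element order is a product of at most two primes. -/
theorem Three.length_le (h : Three G) (g : G) : (orderOf g).primeFactorsList.length ≤ 2 := by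
  by_contra hlen
  have hprod := Nat.prod_primeFactorsList (orderOf_pos g).ne'
  have hpr := fun r (hr : r ∈ (orderOf g).primeFactorsList) => Nat.prime_of_mem_primeFactorsList hr
  rcases hl : (orderOf g).primeFactorsList with _ | ⟨r, _ | ⟨s, _ | ⟨t, l⟩⟩⟩ <;> rw [hl] at hlen hprod hpr <;>
    simp only [List.length_nil, List.length_cons] at hlen
  iterate 3 omega
  simp only [List.prod_cons] at hprod
  have hr : r.Prime := hpr r (by simp)
  have hs : s.Prime := hpr s (by simp)
  have ht : t.Prime := hpr t (by simp)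
  set n := orderOf g with hn
  have ho : ∀ d, d ∣ n → orderOf (g ^ (n / d)) = d := fun d hd =>
    orderOf_pow_orderOf_div (orderOf_pos g).ne' hd
  have h1 : r ∣ n := ⟨_, hprod.symm⟩
  have h2 : r * s ∣ n := ⟨t * l.prod, by rw [← hprod]; ring⟩
  have hlt1 : r < r * s := lt_mul_of_one_lt_right hr.pos hs.one_lt
  have hl1 : 1 ≤ l.prod := Nat.one_le_iff_ne_zero.2 fun e0 => by
    rw [e0, mul_zero, mul_zero, mul_zero] at hprod
    exact (orderOf_pos g).ne' hprod.symm
  have hlt2 : r * s < n := by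
    rw [← hprod, ← mul_assoc r]
    exact lt_mul_of_one_lt_right (Nat.mul_pos hr.pos hs.pos) (lt_of_lt_of_le ht.one_lt (Nat.le_mul_of_pos_right t hl1))
  refine h r hr (g ^ (n / r)) (g ^ (n / (r * s))) g ?_ ?_ ?_ ⟨?_, ?_, h1⟩
  all_goals simp only [ho r h1, ho _ h2]
  · omega
  · omega
  · omega
  · exact dvd_rfl
  · exact dvd_mul_right r s

theorem Three.length_of_mem (h : Three G) {P : Type*} [Group P] (f : G ≃* P) {n : ℕ} {x : P} (hx : orderOf x = n) :
    n.primeFactorsList.length ≤ 2 := by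
  have := h.length_le (f.symm x)
  rwa [MulEquiv.orderOf_eq, hx] at this

theorem Three.pow_four (h : Three G) {g : G} (hg : Two g) : g ^ 4 = 1 := by
  obtain ⟨k, hk⟩ := hg
  have := h.length_le g
  rw [hk, Nat.prime_two.primeFactorsList_pow, List.length_replicate] at this
  exact orderOf_dvd_iff_pow_eq_one.1 (hk ▸ (Nat.pow_dvd_pow 2 this : 2 ^ k ∣ 2 ^ 2))

theorem Three.no_eight (h : Three G) (g : G) : orderOf g ≠ 8 := fun e => by
  have h4 := orderOf_dvd_of_pow_eq_one (h.pow_four ⟨3, by rw [e]; norm_num⟩)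
  rw [e] at h4
  norm_num at h4

theorem iso_of_top {H : Type*} [Group H] {N : Subgroup H} (hN : N = ⊤) {P : Type*} [Group P] (e : ↥N ≃* P) :
    Nonempty (H ≃* P) := by
  subst hN
  exact ⟨Subgroup.topEquiv.symm.trans e⟩

theorem iso_of_core_bot {Q : Subgroup G} [Q.Normal] (hQ : Q = ⊥) {P : Type*} [Group P] (f : G ⧸ Q ≃* P) :
    Nonempty (G ≃* P) :=
  ⟨((QuotientGroup.quotientBot (G := G)).symm.trans (QuotientGroup.quotientMulEquivOfEq hQ.symm)).trans f⟩

section Cases

variable {F : Type} [Field F] [Fintype F]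

local notation "P" => Matrix.ProjectiveSpecialLinearGroup (Fin 2) F

theorem psl_even_lengths {H : Type*} [Group H] [Finite H] (h : Three H) {n : ℕ} (hn : n ≠ 0)
    (hF : Fintype.card F = 2 ^ n) (f : H ≃* P) :
    (Fintype.card F + 1).primeFactorsList.length ≤ 2 ∧ (Fintype.card F - 1).primeFactorsList.length ≤ 2 := by
  haveI := Fact.mk Nat.prime_two
  haveI : CharP F 2 := charP_of_card_eq_prime_pow hF
  have hg : Nat.gcd 2 (Fintype.card F - 1) = 1 := by
    have h2 : 2 ∣ Fintype.card F := hF ▸ dvd_pow_self 2 hn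
    have := Fintype.one_lt_card (α := F)
    exact (Nat.coprime_two_left (n := Fintype.card F - 1)).2 ⟨(Fintype.card F - 2) / 2, by omega⟩
  refine ⟨?_, ?_⟩
  · obtain ⟨x, hx⟩ := (Cfsg.Lib.GLTwo.psl_spectrum (F := F) 2 (Fintype.card F + 1)).2
      (Or.inr (Or.inr (by rw [hg, Nat.div_one])))
    exact h.length_of_mem f hx
  · obtain ⟨x, hx⟩ := (Cfsg.Lib.GLTwo.psl_spectrum (F := F) 2 (Fintype.card F - 1)).2
      (Or.inr (Or.inl (by rw [hg, Nat.div_one])))
    exact h.length_of_mem f hx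

theorem no_eight_psl {H : Type*} [Group H] [Finite H] (h : Three H) (hp : (Fintype.card F).Prime) {k : ℕ}
    (hk : 4 ≤ k) (he : Fintype.card F = 2 ^ k + 1 ∨ Fintype.card F + 1 = 2 ^ k) {N : Subgroup H}
    (e : ↥N ≃* P) : False := by
  haveI := Fact.mk hp
  haveI : CharP F (Fintype.card F) := charP_of_card_eq_prime_pow (f := 1) (pow_one _).symm
  obtain ⟨j, rfl⟩ : ∃ j, k = j + 4 := ⟨k - 4, by omega⟩
  rw [pow_add] at he
  norm_num at he
  have hg : Nat.gcd 2 (Fintype.card F - 1) = 2 := Nat.gcd_eq_left (by have := Nat.two_pow_pos j; omega)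
  obtain ⟨x, hx⟩ := (Cfsg.Lib.GLTwo.psl_spectrum (F := F) (Fintype.card F) 8).2 (by
    rcases he with he | he
    · exact Or.inr (Or.inl (by rw [hg]; exact ⟨2 ^ j, by omega⟩))
    · exact Or.inr (Or.inr (by rw [hg]; exact ⟨2 ^ j, by omega⟩)))
  refine h.no_eight ((e.symm x : ↥N) : H) ?_
  rw [orderOf_coe, MulEquiv.orderOf_eq]
  exact hx

theorem pow_u (k : ℕ) :
    Cfsg.Lib.Known.AutPSL2.π (Cfsg.Lib.Known.AutPSL2.uS (1 : F)) ^ k =
      Cfsg.Lib.Known.AutPSL2.π (Cfsg.Lib.Known.AutPSL2.uS (k : F)) := by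
  induction k with
  | zero => simp [uS_zero]
  | succ k ih => rw [pow_succ, ih, ← map_mul, ← Cfsg.Lib.Known.AutPSL2.uS_add, Nat.cast_succ]

open Matrix Cfsg.Lib.Known.AutPSL2 in
/-- A Frobenius group of order twenty-one in `PSL₂(7)`. -/
theorem exists_twenty_one (hF : Fintype.card F = 7) :
    ∃ x a : P, orderOf x = 7 ∧ orderOf a = 3 ∧ a * x = x ^ 4 * a := by
  haveI := Fact.mk (show Nat.Prime 7 by norm_num)
  haveI : Fact (Nat.Prime 3) := ⟨Nat.prime_three⟩
  haveI : CharP F 7 := charP_of_card_eq_prime_pow (f := 1) (by rw [hF, pow_one])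
  have h7 : (7 : F) = 0 := by exact_mod_cast CharP.cast_eq_zero F 7
  let aS : Matrix.SpecialLinearGroup (Fin 2) F :=
    ⟨!![2, 0; 0, 4], by rw [Matrix.det_fin_two_of]; linear_combination h7⟩
  have hA : (aS : Matrix (Fin 2) (Fin 2) F) = !![2, 0; 0, 4] := rfl
  have hconj : π aS * π (uS (1 : F)) = π (uS (1 : F)) ^ 4 * π aS := by
    rw [pow_u, ← map_mul, ← map_mul]
    refine congrArg π (sl_ext ?_)
    rw [cmul, cmul, hA, coe_uS, coe_uS]
    ext i j
    fin_cases i <;> fin_cases j <;> simp [Matrix.mul_apply, Fin.sum_univ_two]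
    linear_combination (-2 : F) * h7
  refine ⟨π (uS 1), π aS, orderOf_u, orderOf_eq_prime ?_ fun e1 => ?_, hconj⟩
  · rw [← map_pow, show aS ^ 3 = 1 from sl_ext (by
      rw [show aS ^ 3 = aS * aS * aS by rw [pow_succ, pow_two], cmul, cmul, hA, cone]
      ext i j
      fin_cases i <;> fin_cases j <;> simp [Matrix.mul_apply, Fin.sum_univ_two]
      · linear_combination h7
      · linear_combination 9 * h7), map_one]
  · have h3 : π (uS (1 : F)) ^ 3 = 1 := by
      rw [e1, one_mul, mul_one, pow_succ] at hconj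
      exact right_eq_mul.1 hconj
    have := orderOf_dvd_of_pow_eq_one h3
    rw [orderOf_u (p := 7)] at this
    norm_num at this

open Matrix Cfsg.Lib.Known.AutPSL2 in
theorem exists_nine_two (hF : Fintype.card F = 9) :
    ∃ a b : P, a ^ 3 = 1 ∧ b ^ 3 = 1 ∧ Commute a b ∧ a ≠ 1 ∧ b ≠ 1 ∧ a * b ≠ 1 ∧ a ^ 2 * b ≠ 1 := by
  classical
  haveI : Fact (Nat.Prime 3) := ⟨Nat.prime_three⟩
  haveI : CharP F 3 := charP_of_card_eq_prime_pow (f := 2) (by rw [hF]; norm_num)
  have h3 : (3 : F) = 0 := by exact_mod_cast CharP.cast_eq_zero F 3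
  obtain ⟨i, hi⟩ : ∃ i : F, i ∉ ({0, 1, -1} : Finset F) := by
    by_contra hno
    push Not at hno
    have := Finset.card_le_card (s := Finset.univ) fun i _ => hno i
    rw [Finset.card_univ, hF] at this
    have := Finset.card_insert_le (0 : F) {1, -1}
    have := Finset.card_insert_le (1 : F) {-1}
    have := Finset.card_singleton (-1 : F)
    omega
  simp only [Finset.mem_insert, Finset.mem_singleton, not_or] at hi
  obtain ⟨h0, h1, h2⟩ := hi
  have hne : ∀ x : F, x ≠ 0 → π (uS x) ≠ 1 := fun x hx e1 =>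
    hx (uS_injective_π (F := F) (by rw [uS_zero, map_one]; exact e1))
  have hpow : ∀ x : F, π (uS x) ^ 3 = 1 := fun x => by
    rw [pow_succ, pow_two, ← map_mul, ← map_mul, ← uS_add, ← uS_add,
      show x + x + x = 0 by linear_combination x * h3, uS_zero, map_one]
  refine ⟨π (uS 1), π (uS i), hpow 1, hpow i, ?_, hne 1 one_ne_zero, hne i h0, ?_, ?_⟩
  · show π (uS 1) * π (uS i) = π (uS i) * π (uS 1)
    rw [← map_mul, ← map_mul, ← uS_add, ← uS_add, add_comm]
  · rw [← map_mul, ← uS_add]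
    exact hne _ fun e1 => h2 (by linear_combination e1)
  · rw [pow_two, ← map_mul, ← uS_add, ← map_mul, ← uS_add]
    exact hne _ fun e1 => h1 (by linear_combination e1 - h3)

end Cases

/-- The groups in which the centraliser of every involution is a 2-group. -/
theorem three_orders_cit (hns : ¬ Group.IsSolvable G) (h : CIT G) (h3 : Three G) :
    (∃ (F : Type) (_ : Field F) (_ : Fintype F), CharP F 2 ∧ 4 ≤ Fintype.card F ∧
        (Fintype.card F + 1).primeFactorsList.length ≤ 2 ∧ (Fintype.card F - 1).primeFactorsList.length ≤ 2 ∧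
        Nonempty (G ⧸ Cfsg.pCore 2 G ≃* Matrix.ProjectiveSpecialLinearGroup (Fin 2) F)) ∨
    (∃ (F : Type) (_ : Field F) (_ : Fintype F), (Fintype.card F = 7 ∨ Fintype.card F = 9) ∧
        Nonempty (G ≃* Matrix.ProjectiveSpecialLinearGroup (Fin 2) F)) ∨
    (∃ (F : Type) (_ : Field F) (_ : Fintype F), Fintype.card F = 4 ∧
        Nonempty (G ≃* Matrix.ProjectiveSpecialLinearGroup (Fin 3) F)) ∨
    (∃ n : ℕ, 1 ≤ n ∧ IsSimpleGroup G ∧
        Nat.card G = (2 ^ (2 * n + 1)) ^ 2 * ((2 ^ (2 * n + 1)) ^ 2 + 1) * (2 ^ (2 * n + 1) - 1) ∧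
        (2 ^ (2 * n + 1) - 1).primeFactorsList.length ≤ 2 ∧
        (2 ^ (2 * n + 1) - 2 ^ (n + 1) + 1).primeFactorsList.length ≤ 2 ∧
        (2 ^ (2 * n + 1) + 2 ^ (n + 1) + 1).primeFactorsList.length ≤ 2) := by
  haveI : Fact (Nat.Prime 2) := ⟨Nat.prime_two⟩
  obtain ⟨hcit, hnsH, hcore⟩ := quotient_core h hns
  have hT := h3.quotient (Cfsg.pCore 2 G)
  have hQ : IsPGroup 2 ↥(Cfsg.pCore 2 G) := Cfsg.Lib.Components.isPGroup_pCore 2
  obtain ⟨N, hN, hsimple, hna, hC⟩ := exists_socle hcit hnsH hcore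
  haveI := hN
  haveI := hsimple
  have hsmall : ∀ {F : Type} [Field F] [Fintype F] (_ : ↥N ≃* Matrix.ProjectiveSpecialLinearGroup (Fin 2) F),
      Fintype.card F ≠ 2 ∧ Fintype.card F ≠ 3 := by
    intro F _ _ e
    have hc := Cfsg.Lib.Classical.SmallPSL.card_psl (F := F) rfl
    rw [← Nat.card_congr e.toEquiv] at hc
    constructor <;> intro hq <;> rw [hq] at hc <;> norm_num at hc
    · exact card_ne_small (a := 1) (b := 1) hna (by norm_num; omega)
    · exact card_ne_small (a := 2) (b := 1) hna (by norm_num; omega)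
  have heven : ∀ {F : Type} [Field F] [Fintype F] {n : ℕ}, 2 ≤ n → Fintype.card F = 2 ^ n →
      (↥N ≃* Matrix.ProjectiveSpecialLinearGroup (Fin 2) F) →
      ∃ (F : Type) (_ : Field F) (_ : Fintype F), CharP F 2 ∧ 4 ≤ Fintype.card F ∧
        (Fintype.card F + 1).primeFactorsList.length ≤ 2 ∧ (Fintype.card F - 1).primeFactorsList.length ≤ 2 ∧
        Nonempty (G ⧸ Cfsg.pCore 2 G ≃* Matrix.ProjectiveSpecialLinearGroup (Fin 2) F) := by
    intro F _ _ n hn hF e
    obtain ⟨f⟩ := iso_of_top (eq_top_of_psl_even hcit (by omega) hF e) e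
    obtain ⟨hp, hm⟩ := psl_even_lengths hT (by omega) hF f
    exact ⟨F, _, _, charP_of_card_eq_prime_pow hF, hF ▸ (Nat.pow_le_pow_right (by norm_num) hn : 2 ^ 2 ≤ 2 ^ n),
      hp, hm, ⟨f⟩⟩
  rcases Cfsg.Lib.CITGroups.classification_of (Cfsg.Lie.IsoSuzuki ↥N)
      (fun M hZ => Cfsg.Lib.SuzukiUnique.zassenhaus_iso (G := ↥N) (Ω := ↥N ⧸ M) hZ) (hcit.subgroup N) hna with
    ⟨F, i1, i2, hq, ⟨e⟩⟩ | ⟨F, i1, i2, hq, ⟨e⟩⟩ | ⟨F, i1, i2, m, hm, hF, ⟨e⟩⟩
  · obtain ⟨n2, n3⟩ := hsmall e
    rcases hq with h9 | ⟨n, hn⟩ | ⟨hp, k, hk⟩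
    · refine Or.inr (Or.inl ⟨F, i1, i2, Or.inr h9, ?_⟩)
      obtain ⟨f⟩ := iso_of_top (eq_top_of_psl_two hcit hT.no_eight hC (Or.inr h9) e) e
      obtain ⟨a, b, ha, hb, hc, ha1, hb1, hab, haab⟩ := exists_nine_two h9
      refine iso_of_core_bot (core_kill_nine h hQ (f.symm a) (f.symm b) (by rw [← map_pow, ha, map_one])
        (by rw [← map_pow, hb, map_one]) (hc.map f.symm.toMonoidHom) (by simpa using ha1) (by simpa using hb1)
        (by rw [← map_mul]; exact f.symm.map_ne_one_iff.2 hab)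
        (by rw [← map_pow, ← map_mul]; exact f.symm.map_ne_one_iff.2 haab)) f
    · refine Or.inl (heven ?_ hn e)
      have h1 := Fintype.one_lt_card (α := F)
      rcases n with _ | _ | n
      · rw [hn] at h1; norm_num at h1
      · exact absurd hn n2
      · omega
    · by_cases hk4 : 4 ≤ k
      · exact (no_eight_psl hT hp hk4 hk e).elim
      have hcases : Fintype.card F = 5 ∨ Fintype.card F = 7 := by
        rcases (by omega : k = 0 ∨ k = 1 ∨ k = 2 ∨ k = 3) with rfl | rfl | rfl | rfl <;> norm_num at hk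
        all_goals
          have := hp.two_le
          first
            | omega
            | (rw [hk] at hp; norm_num at hp)
            | (rcases hk with hk | hk <;> first | omega | (rw [hk] at hp; norm_num at hp))
      rcases hcases with h5 | h7
      · letI : Fintype (GaloisField 2 2) := Fintype.ofFinite _
        have h4 : Fintype.card (GaloisField 2 2) = 4 := by
          rw [← Nat.card_eq_fintype_card, GaloisField.card 2 2 two_ne_zero]
          norm_num
        obtain ⟨e5⟩ := Cfsg.Agent.S0253.result h5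
        obtain ⟨e4⟩ := Cfsg.Agent.S0252.result h4
        exact Or.inl (heven le_rfl (by rw [h4]; norm_num) ((e.trans e5).trans e4.symm))
      · refine Or.inr (Or.inl ⟨F, i1, i2, Or.inl h7, ?_⟩)
        obtain ⟨f⟩ := iso_of_top (eq_top_of_psl_two hcit hT.no_eight hC (Or.inl h7) e) e
        obtain ⟨x, a, hx, ha, hax⟩ := exists_twenty_one h7
        haveI := Fact.mk (show Nat.Prime 7 by norm_num)
        refine iso_of_core_bot (core_kill_odd h hQ (p := 7) (n := 3) (k := 4) (x := f.symm x) (a := f.symm a)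
          Nat.prime_three (by norm_num) (by norm_num) (by rw [MulEquiv.orderOf_eq, hx])
          (by rw [MulEquiv.orderOf_eq, ha]) (by rw [← map_mul, hax, map_mul, map_pow])
          (fun i h1 h2 => by interval_cases i <;> first | rfl | decide +revert)) f
  · refine Or.inr (Or.inr (Or.inl ⟨F, i1, i2, hq, ?_⟩))
    obtain ⟨f⟩ := iso_of_top (eq_top_of_psl_three hcit hC hq e) e
    obtain ⟨a, b, ha, hb, hc, ha1, hb1, hab, haab⟩ := exists_nine hq
    refine iso_of_core_bot (core_kill_nine h hQ (f.symm a) (f.symm b) (by rw [← map_pow, ha, map_one])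
      (by rw [← map_pow, hb, map_one]) (hc.map f.symm.toMonoidHom) (by simpa using ha1) (by simpa using hb1)
      (by rw [← map_mul]; exact f.symm.map_ne_one_iff.2 hab)
      (by rw [← map_pow, ← map_mul]; exact f.symm.map_ne_one_iff.2 haab)) f
  · have Q : Cfsg.Lib.Suz.Par F m := ⟨hm, hF⟩
    haveI : CharP F 2 := charP_of_card_eq_prime_pow hF
    have e' : ↥N ≃* ↥(Cfsg.Sz F m) := e.trans (Cfsg.Lib.Suz.lieEquiv Q).symm
    have hn3 : ¬ 3 ∣ Nat.card ↥N := by
      rw [Nat.card_congr e'.toEquiv, Cfsg.Lib.Suz.card_Sz Q]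
      have h2 : 2 ^ (2 * m + 1) % 3 = 2 := by rw [pow_succ, pow_mul, Nat.mul_mod, Nat.pow_mod]; norm_num
      have hq1 := Nat.two_pow_pos (2 * m + 1)
      generalize 2 ^ (2 * m + 1) = q at h2 hq1
      simp [Nat.dvd_iff_mod_eq_zero, Nat.mul_mod, Nat.pow_mod, Nat.add_mod, h2, show (q - 1) % 3 = 1 by omega]
    obtain ⟨f⟩ := iso_of_top (eq_top_of_three_free hcit hna hn3) e'
    obtain ⟨x, a, hx, ha, hax⟩ := exists_twenty Q
    haveI : Fact (Nat.Prime 5) := ⟨Nat.prime_five⟩
    have haT : Two (f.symm a) := by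
      obtain ⟨j, -, hj⟩ := (Nat.dvd_prime_pow Nat.prime_two (m := 2)).1
        (orderOf_dvd_of_pow_eq_one (x := f.symm a) (n := 4) (by rw [← map_pow, ha, map_one]))
      exact ⟨j, hj⟩
    obtain ⟨g⟩ := iso_of_core_bot (core_kill_two h hQ (p := 5) (n := 4) (k := 2) (x := f.symm x) (a := f.symm a)
      (by norm_num) (fun y hy => h3.pow_four hy) (by norm_num) (by rw [MulEquiv.orderOf_eq, hx]) haT
      (by rw [← map_mul, hax, map_mul, map_pow]) (fun i h1 h2 => by interval_cases i <;> first | rfl | decide +revert)) f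
    have hlen : ∀ {U : Subgroup ↥(Cfsg.Sz F m)} {n : ℕ}, IsCyclic U → Nat.card U = n →
        n.primeFactorsList.length ≤ 2 := by
      intro U n hU hc
      obtain ⟨z, hz⟩ := hU.exists_generator
      exact h3.length_of_mem g (x := (z : ↥(Cfsg.Sz F m)))
        (by rw [orderOf_coe, orderOf_eq_card_of_forall_mem_zpowers hz, hc])
    haveI := Cfsg.Lib.Suz.simple Q
    haveI : Nontrivial G := g.toEquiv.nontrivial
    refine Or.inr (Or.inr (Or.inr ⟨m, hm, IsSimpleGroup.isSimpleGroup_of_surjective g.symm.toMonoidHom g.symm.surjective,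
      by rw [Nat.card_congr g.toEquiv, Cfsg.Lib.Suz.card_Sz Q],
      hlen (Cfsg.Lib.Suz.range_data Q).1 (Cfsg.Lib.Suz.range_data Q).2, ?_, ?_⟩))
    · obtain ⟨U, hU, hc, -⟩ := Cfsg.Lib.Suz.tori Q _ (Or.inr rfl)
      exact hlen hU hc
    · obtain ⟨U, hU, hc, -⟩ := Cfsg.Lib.Suz.tori Q _ (Or.inl rfl)
      exact hlen hU hc

end Cfsg.Lib.CITExt
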